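import Groth.Agent.ArtFun.K724.Basic
import Groth.Prelude.Def_ArtFun2
import Mathlib.RingTheory.AdicCompletion.Functoriality
import Mathlib.RingTheory.AdicCompletion.Noetherian
import Mathlib.RingTheory.Nakayama

/-!
Complete local rings: surjectivity on cotangent spaces implies surjectivity (helper724).
-/

set_option autoImplicit false
universe u v
open CategoryTheory
open ArtFun ArtFun.Art

namespace K724.Complete

open K724.Basic IsLocalRing

theorem map_maximalIdeal_eq {R S : Type*} [CommRing R] [CommRing S] [IsLocalRing R] [IsLocalRing S]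
    [IsNoetherianRing S] (f : R →+* S)
    (h : (maximalIdeal R).map f ⊔ maximalIdeal S ^ 2 = maximalIdeal S) :
    (maximalIdeal R).map f = maximalIdeal S := by
  apply le_antisymm
  · rw [← h]; exact le_sup_left
  · refine Submodule.le_of_le_smul_of_le_jacobson_bot (I := maximalIdeal S)
      (IsNoetherian.noetherian (maximalIdeal S)) (IsLocalRing.maximalIdeal_le_jacobson _) ?_
    rw [smul_eq_mul, ← sq, h]

/-- A map from a complete local ring to a Noetherian local ring which is surjective on residue fields and on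
cotangent spaces is surjective. -/
theorem surjective_of_cotangent {R S : Type*} [CommRing R] [CommRing S] [IsLocalRing R] [IsLocalRing S]
    [IsNoetherianRing S] [IsPrecomplete (maximalIdeal R) R] (f : R →+* S)
    (hres : ∀ s : S, ∃ r : R, s - f r ∈ maximalIdeal S)
    (h : (maximalIdeal R).map f ⊔ maximalIdeal S ^ 2 = maximalIdeal S) : Function.Surjective f := by
  have h1 := map_maximalIdeal_eq f h
  haveI : IsHausdorff ((maximalIdeal R).map f) S := by rw [h1]; infer_instance
  apply surjective_of_mk_map_comp_surjective (I := maximalIdeal R) f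
  intro x
  obtain ⟨s, rfl⟩ := Ideal.Quotient.mk_surjective x
  obtain ⟨r, hr⟩ := hres s
  refine ⟨r, ?_⟩
  rw [RingHom.comp_apply]
  symm
  rw [Ideal.Quotient.eq, h1]
  exact hr

variable {Λ : Type u} {k : Type u} [CommRing Λ] [Field k] [Algebra Λ k]

theorem exists_sub_mem {R S : Type u} [CommRing R] [CommRing S] [Algebra Λ R] [Algebra Λ S] [IsLocalRing S]
    (resR : R →ₐ[Λ] k) (hR : Function.Surjective resR) (resS : S →ₐ[Λ] k) (hS : Function.Surjective resS)
    (f : R →ₐ[Λ] S) (hf : resS.comp f = resR) (s : S) :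
    ∃ r : R, s - f r ∈ maximalIdeal S := by
  obtain ⟨r, hr⟩ := hR (resS s)
  refine ⟨r, ?_⟩
  rw [mem_maximalIdeal_iff' resS hS, map_sub, sub_eq_zero, ← hr, ← hf]
  rfl

theorem map_le_maximalIdeal {R S : Type u} [CommRing R] [CommRing S] [Algebra Λ R] [Algebra Λ S] [IsLocalRing R]
    [IsLocalRing S]
    (resR : R →ₐ[Λ] k) (hR : Function.Surjective resR) (resS : S →ₐ[Λ] k) (hS : Function.Surjective resS)
    (f : R →ₐ[Λ] S) (hf : resS.comp f = resR) : (maximalIdeal R).map f ≤ maximalIdeal S := by
  rw [Ideal.map_le_iff_le_comap]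
  intro r hr
  rw [Ideal.mem_comap, mem_maximalIdeal_iff' resS hS]
  rw [mem_maximalIdeal_iff' resR hR, ← hf] at hr
  exact hr

theorem map_ker_le {R S : Type u} [CommRing R] [CommRing S] [Algebra Λ R] [Algebra Λ S] [IsLocalRing R]
    [IsLocalRing S]
    (resR : R →ₐ[Λ] k) (hR : Function.Surjective resR) 
    (f : R →ₐ[Λ] S) :
    (RingHom.ker (algebraMap Λ k)).map (algebraMap Λ S) ≤ (maximalIdeal R).map f := by
  rw [Ideal.map_le_iff_le_comap]
  intro x hx
  rw [Ideal.mem_comap, ← f.commutes]
  apply Ideal.mem_map_of_mem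
  rw [mem_maximalIdeal_iff' resR hR, AlgHom.commutes]
  exact hx

end K724.Complete
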