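import Groth.Prelude.Def_ArtFun3
import Mathlib.RingTheory.HopkinsLevitzki
import Mathlib.RingTheory.Noetherian.Basic
import Mathlib.RingTheory.Noetherian.Nilpotent
import Mathlib.RingTheory.Ideal.Maps
import Mathlib.RingTheory.Finiteness.Basic

/-!
Basic facts on `ArtFun.Art Λ k` (helper724): objects from finite augmented algebras, finiteness over `Λ`,
fibre products, isomorphisms, induction over small extensions.
-/

set_option autoImplicit false
universe u v
open CategoryTheory
open ArtFun ArtFun.Art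

namespace K724.Basic

variable {Λ : Type u} {k : Type u} [CommRing Λ] [Field k] [Algebra Λ k]

section Obj

/-- An element of nonzero augmentation is a unit when elements of augmentation zero are nilpotent. -/
theorem isUnit_of_nil {S : Type u} [CommRing S] [Algebra Λ S] (res : S →ₐ[Λ] k)
    (hres : Function.Surjective res) (hnil : ∀ s : S, res s = 0 → IsNilpotent s) (s : S) (hs : res s ≠ 0) :
    IsUnit s := by
  obtain ⟨t, ht⟩ := hres (res s)⁻¹
  have h1 : res (1 - s * t) = 0 := by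
    rw [map_sub, map_one, map_mul, ht, mul_inv_cancel₀ hs, sub_self]
  have h2 := (hnil _ h1).isUnit_one_sub
  rw [sub_sub_cancel] at h2
  exact isUnit_of_mul_isUnit_left h2

/-- An augmented algebra in which elements of augmentation zero are nilpotent is local. -/
theorem isLocalRing_of_nil {S : Type u} [CommRing S] [Algebra Λ S] (res : S →ₐ[Λ] k)
    (hres : Function.Surjective res) (hnil : ∀ s : S, res s = 0 → IsNilpotent s) : IsLocalRing S := by
  haveI : Nontrivial S := (res : S →+* k).domain_nontrivial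
  refine IsLocalRing.of_isUnit_or_isUnit_one_sub_self fun a => ?_
  by_cases h : res a = 0
  · right
    apply isUnit_of_nil res hres hnil
    rw [map_sub, map_one, h, sub_zero]
    exact one_ne_zero
  · exact Or.inl (isUnit_of_nil res hres hnil a h)

theorem mem_maximalIdeal_iff' {S : Type u} [CommRing S] [Algebra Λ S] [IsLocalRing S] (res : S →ₐ[Λ] k)
    (hres : Function.Surjective res) (s : S) : s ∈ IsLocalRing.maximalIdeal S ↔ res s = 0 := by
  have hmax : (RingHom.ker (res : S →+* k)).IsMaximal :=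
    RingHom.ker_isMaximal_of_surjective (res : S →+* k) hres
  rw [← IsLocalRing.eq_maximalIdeal hmax, RingHom.mem_ker]
  rfl

theorem isArtinianRing_of_nil {S : Type u} [CommRing S] [Algebra Λ S] [IsNoetherianRing S] (res : S →ₐ[Λ] k)
    (hres : Function.Surjective res) (hnil : ∀ s : S, res s = 0 → IsNilpotent s) : IsArtinianRing S := by
  haveI := isLocalRing_of_nil res hres hnil
  rw [isArtinianRing_iff_isNilpotent_maximalIdeal]
  have h1 : IsLocalRing.maximalIdeal S ≤ nilradical S := fun s hs =>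
    mem_nilradical.2 (hnil s ((mem_maximalIdeal_iff' res hres s).1 hs))
  exact (Ideal.FG.isNilpotent_iff_le_nilradical (IsNoetherian.noetherian _)).2 h1

/-- The object of `Art Λ k` given by a Noetherian augmented algebra in which elements of augmentation zero are
nilpotent. -/
noncomputable def mkObj (S : Type u) [CommRing S] [Algebra Λ S] [IsNoetherianRing S] (res : S →ₐ[Λ] k)
    (hres : Function.Surjective res) (hnil : ∀ s : S, res s = 0 → IsNilpotent s) : Art Λ k :=
  haveI := isLocalRing_of_nil res hres hnil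
  haveI := isArtinianRing_of_nil res hres hnil
  Art.of S res hres

theorem isNilpotent_of_res_eq_zero (A : Art Λ k) (a : A) (h : A.res a = 0) : IsNilpotent a := by
  have h1 : a ∈ IsLocalRing.maximalIdeal A := (mem_maximalIdeal_iff A a).2 h
  obtain ⟨n, hn⟩ := (isArtinianRing_iff_isNilpotent_maximalIdeal A).1 inferInstance
  refine ⟨n, ?_⟩
  have h2 := Ideal.pow_mem_pow h1 n
  rw [hn] at h2
  exact h2

theorem isUnit_of_res_ne_zero (A : Art Λ k) (a : A) (h : A.res a ≠ 0) : IsUnit a := by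
  by_contra h1
  exact h ((mem_maximalIdeal_iff A a).1 ((IsLocalRing.mem_maximalIdeal a).2 h1))

/-- A surjection with finitely generated nilpotent kernel onto a module-finite algebra has module-finite source. -/
theorem moduleFinite_of_surjective_nilpotent {S K : Type*} [CommRing S] [CommRing K] [Algebra Λ S] [Algebra Λ K]
    (π : S →ₐ[Λ] K) (hπ : Function.Surjective π) (hfg : (RingHom.ker π).FG) (hnil : IsNilpotent (RingHom.ker π))
    [Module.Finite Λ K] : Module.Finite Λ S := by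
  classical
  set I : Ideal S := RingHom.ker π with hI
  -- finitely many elements generating S modulo I over Λ
  obtain ⟨C, hC⟩ : ∃ C : Submodule Λ S, C.FG ∧ ∀ s : S, ∃ c ∈ C, s - c ∈ I := by
    obtain ⟨t, ht⟩ := (Module.Finite.fg_top (R := Λ) (M := K))
    choose g hg using hπ
    refine ⟨Submodule.span Λ ((t.image g : Finset S) : Set S), ⟨t.image g, rfl⟩, fun s => ?_⟩
    have h1 : Submodule.map π.toLinearMap (Submodule.span Λ ((t.image g : Finset S) : Set S)) = ⊤ := by
      rw [Submodule.map_span, eq_top_iff, ← ht]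
      apply Submodule.span_mono
      intro x hx
      refine ⟨g x, ?_, hg x⟩
      exact Finset.mem_coe.2 (Finset.mem_image_of_mem g hx)
    have h2 : π s ∈ Submodule.map π.toLinearMap (Submodule.span Λ ((t.image g : Finset S) : Set S)) := by
      rw [h1]; trivial
    obtain ⟨c, hc, hcs⟩ := h2
    refine ⟨c, hc, ?_⟩
    rw [hI, RingHom.mem_ker, map_sub]
    have : π c = π s := hcs
    rw [this, sub_self]
  obtain ⟨N, hN⟩ := hnil
  -- downward induction
  have key : ∀ j : ℕ, ((I ^ (N - j)).restrictScalars Λ).FG := by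
    intro j
    induction j with
    | zero =>
      rw [Nat.sub_zero, hN]
      have : Submodule.restrictScalars Λ (0 : Ideal S) = ⊥ := by
        rw [Ideal.zero_eq_bot]; exact Submodule.restrictScalars_bot _ _ _
      rw [this]
      exact Submodule.fg_bot
    | succ j ih =>
      by_cases hj : N ≤ j
      · rw [Nat.sub_eq_zero_of_le (hj.trans (Nat.le_succ _))]
        rw [Nat.sub_eq_zero_of_le hj] at ih
        exact ih
      · push Not at hj
        set n := N - (j + 1) with hn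
        have hn1 : N - j = n + 1 := by omega
        rw [hn1] at ih
        obtain ⟨X, hX⟩ := (Ideal.FG.pow (n := n) hfg : (I ^ n).FG)
        have hle : (I ^ n).restrictScalars Λ =
            C * (Submodule.span Λ (X : Set S)) ⊔ (I ^ (n + 1)).restrictScalars Λ := by
          apply le_antisymm
          · have hmem : ∀ (s : S) (x : S), x ∈ (X : Set S) →
                s * x ∈ C * (Submodule.span Λ (X : Set S)) ⊔ (I ^ (n + 1)).restrictScalars Λ := by
              intro s x hx
              obtain ⟨c, hc, hcs⟩ := hC.2 s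
              have h1 : s * x = c * x + (s - c) * x := by ring
              rw [h1]
              refine Submodule.add_mem_sup (Submodule.mul_mem_mul hc (Submodule.subset_span hx)) ?_
              change (s - c) * x ∈ I ^ (n + 1)
              rw [pow_succ']
              refine Ideal.mul_mem_mul hcs ?_
              rw [← hX]
              exact Submodule.subset_span hx
            intro y hy
            have hy' : y ∈ I ^ n := hy
            rw [← hX] at hy'
            have h2 : ∀ s : S, s * y ∈ C * (Submodule.span Λ (X : Set S)) ⊔ (I ^ (n + 1)).restrictScalars Λ := by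
              clear hy
              induction hy' using Submodule.span_induction with
              | mem x hx => exact fun s => hmem s x hx
              | zero => intro s; rw [mul_zero]; exact Submodule.zero_mem _
              | add x y _ _ hx hy =>
                intro s
                rw [mul_add]
                exact Submodule.add_mem _ (hx s) (hy s)
              | smul a x _ hx =>
                intro s
                rw [smul_eq_mul, ← mul_assoc]
                exact hx _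
            have h3 := h2 1
            rwa [one_mul] at h3
          · refine sup_le ?_ ?_
            · rw [Submodule.mul_le]
              intro c _ x hx
              have hx' : x ∈ (I ^ n).restrictScalars Λ := by
                refine Submodule.span_le.2 ?_ hx
                intro y hy
                change y ∈ I ^ n
                rw [← hX]
                exact Submodule.subset_span hy
              exact Ideal.mul_mem_left _ _ hx'
            · intro x hx
              exact Ideal.pow_le_pow_right (Nat.le_succ n) hx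
        rw [hle]
        exact ((hC.1).mul ⟨X, rfl⟩).sup ih
  have h0 := key N
  rw [Nat.sub_self, pow_zero, Ideal.one_eq_top, Submodule.restrictScalars_top] at h0
  exact ⟨h0⟩

/-- Objects of `Art Λ k` are finite `Λ`-modules when `k` is. -/
theorem moduleFinite (A : Art Λ k) [Module.Finite Λ k] : Module.Finite Λ A := by
  have h : RingHom.ker A.res = IsLocalRing.maximalIdeal A := by
    ext a
    rw [RingHom.mem_ker]
    exact (mem_maximalIdeal_iff A a).symm
  refine moduleFinite_of_surjective_nilpotent A.res A.res_surjective (IsNoetherian.noetherian _) ?_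
  rw [h]
  exact (isArtinianRing_iff_isNilpotent_maximalIdeal A).1 inferInstance

end Obj

section FibreProd

variable {B A A₁ A₂ : Art Λ k}

/-- The set-theoretic fibre product as a subalgebra of the product. -/
def fpSub (f₁ : A₁ ⟶ A) (f₂ : A₂ ⟶ A) : Subalgebra Λ (A₁ × A₂) :=
  AlgHom.equalizer (f₁.toAlgHom.comp (AlgHom.fst Λ A₁ A₂)) (f₂.toAlgHom.comp (AlgHom.snd Λ A₁ A₂))

theorem mem_fpSub (f₁ : A₁ ⟶ A) (f₂ : A₂ ⟶ A) (x : A₁ × A₂) : x ∈ fpSub f₁ f₂ ↔ f₁ x.1 = f₂ x.2 := Iff.rfl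

/-- Existence of fibre products, as soon as the set-theoretic fibre product surjects onto the residue field. -/
theorem exists_isFibreProd_of_res [IsNoetherianRing Λ] [Module.Finite Λ k] (f₁ : A₁ ⟶ A) (f₂ : A₂ ⟶ A)
    (h : ∀ c : k, ∃ (a₁ : A₁) (a₂ : A₂), A₁.res a₁ = c ∧ f₁ a₁ = f₂ a₂) :
    ∃ (B : Art Λ k) (p₁ : B ⟶ A₁) (p₂ : B ⟶ A₂), IsFibreProd p₁ p₂ f₁ f₂ := by
  haveI := moduleFinite A₁
  haveI := moduleFinite A₂
  haveI : Module.Finite Λ (fpSub f₁ f₂) := Module.Finite.of_injective (fpSub f₁ f₂).val.toLinearMap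
    Subtype.val_injective
  haveI : IsNoetherianRing (fpSub f₁ f₂) := isNoetherian_of_isNoetherianRing_of_finite Λ _ |> fun h =>
    isNoetherian_of_tower Λ h
  let res : fpSub f₁ f₂ →ₐ[Λ] k := (A₁.res.comp (AlgHom.fst Λ A₁ A₂)).comp (fpSub f₁ f₂).val
  have hres : Function.Surjective res := by
    intro c
    obtain ⟨a₁, a₂, h1, h2⟩ := h c
    exact ⟨⟨(a₁, a₂), h2⟩, h1⟩
  have hnil : ∀ s : fpSub f₁ f₂, res s = 0 → IsNilpotent s := by
    intro s hs
    have h1 : A₁.res s.1.1 = 0 := hs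
    have h2 : A₂.res s.1.2 = 0 := by
      rw [← res_app f₂, ← (mem_fpSub f₁ f₂ s.1).1 s.2, res_app f₁, h1]
    obtain ⟨n, hn⟩ := isNilpotent_of_res_eq_zero A₁ _ h1
    obtain ⟨m, hm⟩ := isNilpotent_of_res_eq_zero A₂ _ h2
    refine ⟨n + m, Subtype.ext (Prod.ext ?_ ?_)⟩
    · change s.1.1 ^ (n + m) = 0
      rw [pow_add, hn, zero_mul]
    · change s.1.2 ^ (n + m) = 0
      rw [pow_add, hm, mul_zero]
  refine ⟨mkObj (fpSub f₁ f₂) res hres hnil, ⟨(AlgHom.fst Λ A₁ A₂).comp (fpSub f₁ f₂).val, rfl⟩,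
    ⟨(AlgHom.snd Λ A₁ A₂).comp (fpSub f₁ f₂).val, ?_⟩, ?_, ?_, ?_⟩
  · apply AlgHom.ext
    intro s
    change A₂.res s.1.2 = A₁.res s.1.1
    rw [← res_app f₂, ← (mem_fpSub f₁ f₂ s.1).1 s.2, res_app f₁]
  · apply hom_ext
    apply AlgHom.ext
    intro s
    exact s.2
  · intro b₁ b₂ h₁ h₂
    exact Subtype.ext (Prod.ext h₁ h₂)
  · intro a' a'' h
    exact ⟨⟨(a', a''), h⟩, rfl, rfl⟩

/-- Existence of fibre products along a surjection. -/
theorem exists_isFibreProd [IsNoetherianRing Λ] [Module.Finite Λ k] (f₁ : A₁ ⟶ A) (f₂ : A₂ ⟶ A)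
    (hf₂ : Function.Surjective f₂) :
    ∃ (B : Art Λ k) (p₁ : B ⟶ A₁) (p₂ : B ⟶ A₂), IsFibreProd p₁ p₂ f₁ f₂ := by
  apply exists_isFibreProd_of_res
  intro c
  obtain ⟨a₁, h1⟩ := A₁.res_surjective c
  obtain ⟨a₂, h2⟩ := hf₂ (f₁ a₁)
  exact ⟨a₁, a₂, h1, h2.symm⟩

theorem IsFibreProd.surjective_fst {p₁ : B ⟶ A₁} {p₂ : B ⟶ A₂} {f₁ : A₁ ⟶ A} {f₂ : A₂ ⟶ A}
    (h : IsFibreProd p₁ p₂ f₁ f₂) (hf₂ : Function.Surjective f₂) : Function.Surjective p₁ := by
  intro a₁
  obtain ⟨a₂, h2⟩ := hf₂ (f₁ a₁)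
  obtain ⟨b, hb, -⟩ := h.surj a₁ a₂ h2.symm
  exact ⟨b, hb⟩

theorem IsFibreProd.symm {p₁ : B ⟶ A₁} {p₂ : B ⟶ A₂} {f₁ : A₁ ⟶ A} {f₂ : A₂ ⟶ A}
    (h : IsFibreProd p₁ p₂ f₁ f₂) : IsFibreProd p₂ p₁ f₂ f₁ where
  w := h.w.symm
  inj b₁ b₂ h₁ h₂ := h.inj b₁ b₂ h₂ h₁
  surj a' a'' e := by
    obtain ⟨b, h1, h2⟩ := h.surj a'' a' e.symm
    exact ⟨b, h2, h1⟩

/-- The algebra isomorphism of a pinned fibre product with the set-theoretic one. -/
noncomputable def IsFibreProd.equiv {p₁ : B ⟶ A₁} {p₂ : B ⟶ A₂} {f₁ : A₁ ⟶ A} {f₂ : A₂ ⟶ A}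
    (h : IsFibreProd p₁ p₂ f₁ f₂) : B ≃ₐ[Λ] fpSub f₁ f₂ :=
  AlgEquiv.ofBijective ((AlgHom.prod p₁.toAlgHom p₂.toAlgHom).codRestrict (fpSub f₁ f₂) (fun b => h.w_apply b))
    ⟨fun b₁ b₂ e => h.inj b₁ b₂ (congrArg (fun x => x.1.1) e) (congrArg (fun x => x.1.2) e), fun x => by
      obtain ⟨b, h1, h2⟩ := h.surj x.1.1 x.1.2 x.2
      exact ⟨b, Subtype.ext (Prod.ext h1 h2)⟩⟩

theorem IsFibreProd.equiv_symm_fst {p₁ : B ⟶ A₁} {p₂ : B ⟶ A₂} {f₁ : A₁ ⟶ A} {f₂ : A₂ ⟶ A}
    (h : IsFibreProd p₁ p₂ f₁ f₂) (x : fpSub f₁ f₂) : p₁ ((IsFibreProd.equiv h).symm x) = x.1.1 := by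
  conv_rhs => rw [← (IsFibreProd.equiv h).apply_symm_apply x]
  rfl

theorem IsFibreProd.equiv_symm_snd {p₁ : B ⟶ A₁} {p₂ : B ⟶ A₂} {f₁ : A₁ ⟶ A} {f₂ : A₂ ⟶ A}
    (h : IsFibreProd p₁ p₂ f₁ f₂) (x : fpSub f₁ f₂) : p₂ ((IsFibreProd.equiv h).symm x) = x.1.2 := by
  conv_rhs => rw [← (IsFibreProd.equiv h).apply_symm_apply x]
  rfl

/-- Universal property of a pinned fibre product for maps from an arbitrary augmented algebra. -/
noncomputable def IsFibreProd.lift {p₁ : B ⟶ A₁} {p₂ : B ⟶ A₂} {f₁ : A₁ ⟶ A} {f₂ : A₂ ⟶ A}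
    (h : IsFibreProd p₁ p₂ f₁ f₂) {R : Type u} [CommRing R] [Algebra Λ R] {resR : R →ₐ[Λ] k}
    (φ₁ : HomSet R resR A₁) (φ₂ : HomSet R resR A₂) (e : HomSet.map f₁ φ₁ = HomSet.map f₂ φ₂) : HomSet R resR B :=
  ⟨(IsFibreProd.equiv h).symm.toAlgHom.comp ((AlgHom.prod φ₁.1 φ₂.1).codRestrict (fpSub f₁ f₂)
      (fun r => DFunLike.congr_fun (congrArg Subtype.val e) r)), by
    apply AlgHom.ext
    intro r
    change B.res ((IsFibreProd.equiv h).symm _) = _
    rw [← res_app p₁, IsFibreProd.equiv_symm_fst h]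
    exact DFunLike.congr_fun φ₁.2 r⟩

theorem IsFibreProd.lift_fst {p₁ : B ⟶ A₁} {p₂ : B ⟶ A₂} {f₁ : A₁ ⟶ A} {f₂ : A₂ ⟶ A}
    (h : IsFibreProd p₁ p₂ f₁ f₂) {R : Type u} [CommRing R] [Algebra Λ R] {resR : R →ₐ[Λ] k}
    (φ₁ : HomSet R resR A₁) (φ₂ : HomSet R resR A₂) (e : HomSet.map f₁ φ₁ = HomSet.map f₂ φ₂) :
    HomSet.map p₁ (IsFibreProd.lift h φ₁ φ₂ e) = φ₁ :=
  Subtype.ext (AlgHom.ext fun _ => IsFibreProd.equiv_symm_fst h _)

theorem IsFibreProd.lift_snd {p₁ : B ⟶ A₁} {p₂ : B ⟶ A₂} {f₁ : A₁ ⟶ A} {f₂ : A₂ ⟶ A}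
    (h : IsFibreProd p₁ p₂ f₁ f₂) {R : Type u} [CommRing R] [Algebra Λ R] {resR : R →ₐ[Λ] k}
    (φ₁ : HomSet R resR A₁) (φ₂ : HomSet R resR A₂) (e : HomSet.map f₁ φ₁ = HomSet.map f₂ φ₂) :
    HomSet.map p₂ (IsFibreProd.lift h φ₁ φ₂ e) = φ₂ :=
  Subtype.ext (AlgHom.ext fun _ => IsFibreProd.equiv_symm_snd h _)

theorem IsFibreProd.homSet_ext {p₁ : B ⟶ A₁} {p₂ : B ⟶ A₂} {f₁ : A₁ ⟶ A} {f₂ : A₂ ⟶ A}
    (h : IsFibreProd p₁ p₂ f₁ f₂) {R : Type u} [CommRing R] [Algebra Λ R] {resR : R →ₐ[Λ] k}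
    {φ ψ : HomSet R resR B} (e₁ : HomSet.map p₁ φ = HomSet.map p₁ ψ) (e₂ : HomSet.map p₂ φ = HomSet.map p₂ ψ) :
    φ = ψ :=
  Subtype.ext (AlgHom.ext fun r => h.inj _ _ (DFunLike.congr_fun (congrArg Subtype.val e₁) r)
    (DFunLike.congr_fun (congrArg Subtype.val e₂) r))

/-- Universal property of a pinned fibre product for morphisms in the category. -/
theorem IsFibreProd.exists_lift {p₁ : B ⟶ A₁} {p₂ : B ⟶ A₂} {f₁ : A₁ ⟶ A} {f₂ : A₂ ⟶ A}
    (h : IsFibreProd p₁ p₂ f₁ f₂) {C : Art Λ k} (g₁ : C ⟶ A₁) (g₂ : C ⟶ A₂) (e : g₁ ≫ f₁ = g₂ ≫ f₂) :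
    ∃ g : C ⟶ B, g ≫ p₁ = g₁ ∧ g ≫ p₂ = g₂ := by
  have e' : HomSet.map f₁ (⟨g₁.toAlgHom, g₁.res_comp⟩ : HomSet C C.res A₁) =
      HomSet.map f₂ (⟨g₂.toAlgHom, g₂.res_comp⟩ : HomSet C C.res A₂) :=
    Subtype.ext (congrArg Hom.toAlgHom e)
  let ψ := IsFibreProd.lift h _ _ e'
  refine ⟨⟨ψ.1, ψ.2⟩, ?_, ?_⟩
  · exact hom_ext (congrArg Subtype.val (IsFibreProd.lift_fst h _ _ e'))
  · exact hom_ext (congrArg Subtype.val (IsFibreProd.lift_snd h _ _ e'))

theorem IsFibreProd.hom_ext' {p₁ : B ⟶ A₁} {p₂ : B ⟶ A₂} {f₁ : A₁ ⟶ A} {f₂ : A₂ ⟶ A}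
    (h : IsFibreProd p₁ p₂ f₁ f₂) {C : Art Λ k} {g g' : C ⟶ B} (e₁ : g ≫ p₁ = g' ≫ p₁) (e₂ : g ≫ p₂ = g' ≫ p₂) :
    g = g' :=
  hom_ext (AlgHom.ext fun r => h.inj _ _ (DFunLike.congr_fun (congrArg Hom.toAlgHom e₁) r)
    (DFunLike.congr_fun (congrArg Hom.toAlgHom e₂) r))

end FibreProd

section Iso

/-- A bijective morphism is an isomorphism. -/
noncomputable def isoOfBijective {A B : Art Λ k} (f : A ⟶ B) (hf : Function.Bijective f) : A ≅ B where
  hom := f
  inv := ⟨(AlgEquiv.ofBijective f.toAlgHom hf).symm.toAlgHom, by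
    apply AlgHom.ext
    intro b
    obtain ⟨a, rfl⟩ := hf.2 b
    change A.res ((AlgEquiv.ofBijective f.toAlgHom hf).symm (f.toAlgHom a)) = B.res (f a)
    rw [res_app, AlgEquiv.ofBijective_symm_apply_apply]⟩
  hom_inv_id := hom_ext (AlgHom.ext fun a => AlgEquiv.ofBijective_symm_apply_apply f.toAlgHom hf a)
  inv_hom_id := hom_ext (AlgHom.ext fun a => AlgEquiv.ofBijective_apply_symm_apply f.toAlgHom hf a)

@[simp] theorem isoOfBijective_hom {A B : Art Λ k} (f : A ⟶ B) (hf : Function.Bijective f) :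
    (isoOfBijective f hf).hom = f := rfl

theorem isIso_of_bijective {A B : Art Λ k} (f : A ⟶ B) (hf : Function.Bijective f) : IsIso f :=
  (isoOfBijective f hf).isIso_hom

theorem bijective_of_isIso {A B : Art Λ k} (f : A ⟶ B) [IsIso f] : Function.Bijective f := by
  refine ⟨fun a b h => ?_, fun b => ⟨inv f b, ?_⟩⟩
  · have h1 : inv f (f a) = inv f (f b) := by rw [h]
    change (f ≫ inv f) a = (f ≫ inv f) b at h1
    rwa [IsIso.hom_inv_id] at h1
  · change (inv f ≫ f) b = b
    rw [IsIso.inv_hom_id]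
    rfl

end Iso

section Induction

variable {A B : Art Λ k}

theorem map_comp_apply (F : Art Λ k ⥤ Type v) {A B C : Art Λ k} (f : A ⟶ B) (g : B ⟶ C) (x : F.obj A) :
    F.map g (F.map f x) = F.map (f ≫ g) x := by
  rw [F.map_comp]; rfl

theorem map_id_apply (F : Art Λ k ⥤ Type v) (A : Art Λ k) (x : F.obj A) : F.map (𝟙 A) x = x := by
  rw [F.map_id]; rfl

/-- A nonzero ideal of an object contains a nonzero element killed by the maximal ideal. -/
theorem exists_socle_mem (B : Art Λ k) (I : Ideal B) (hI : I ≠ ⊥) :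
    ∃ x ∈ I, x ≠ 0 ∧ ∀ m ∈ IsLocalRing.maximalIdeal B, m * x = 0 := by
  obtain ⟨N, hN⟩ := (isArtinianRing_iff_isNilpotent_maximalIdeal B).1 inferInstance
  have h1 : ∃ n, IsLocalRing.maximalIdeal B ^ n * I = ⊥ := ⟨N, by rw [hN, zero_mul, Ideal.zero_eq_bot]⟩
  classical
  obtain ⟨n, h2, hmin⟩ : ∃ n, IsLocalRing.maximalIdeal B ^ n * I = ⊥ ∧
      ∀ m < n, ¬ IsLocalRing.maximalIdeal B ^ m * I = ⊥ :=
    ⟨Nat.find h1, Nat.find_spec h1, fun m hm => Nat.find_min h1 hm⟩
  cases n with
  | zero =>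
    rw [pow_zero, Ideal.one_eq_top, Ideal.top_mul] at h2
    exact absurd h2 hI
  | succ m =>
    have h4 : IsLocalRing.maximalIdeal B ^ m * I ≠ ⊥ := hmin m (Nat.lt_succ_self m)
    obtain ⟨x, hx, hx0⟩ := (Submodule.ne_bot_iff _).1 h4
    refine ⟨x, Ideal.mul_le_right hx, hx0, fun a ha => ?_⟩
    have h5 : a * x ∈ IsLocalRing.maximalIdeal B ^ (m + 1) * I := by
      rw [pow_succ', mul_assoc]
      exact Ideal.mul_mem_mul ha hx
    rw [h2] at h5
    exact (Ideal.mem_bot).1 h5

/-- The quotient by a socle element is a small extension. -/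
theorem isSmallExt_quotMk_span (B : Art Λ k) (x : B) (hx0 : x ≠ 0)
    (hx : ∀ m ∈ IsLocalRing.maximalIdeal B, m * x = 0) (hK : Ideal.span {x} ≤ IsLocalRing.maximalIdeal B) :
    IsSmallExt (quotMk B (Ideal.span {x}) hK) := by
  have hker : RingHom.ker (quotMk B (Ideal.span {x}) hK).toAlgHom = Ideal.span {x} := by
    ext a
    rw [RingHom.mem_ker]
    exact Ideal.Quotient.eq_zero_iff_mem
  refine ⟨quotMk_surjective B _ hK, ?_, ?_, ?_⟩
  · rw [hker]
    intro h
    exact hx0 (Ideal.span_singleton_eq_bot.1 h)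
  · rw [hker]
    exact ⟨⟨x, rfl⟩⟩
  · rw [hker, eq_bot_iff, Ideal.mul_le]
    intro r hr s hs
    obtain ⟨c, rfl⟩ := Ideal.mem_span_singleton'.1 hs
    rw [Ideal.mem_bot, mul_left_comm, hx r hr, mul_zero]

/-- Induction over small extensions: a property of surjections that holds for isomorphisms and is stable under
`p ≫ q` with `p` small holds for all surjections. -/
theorem surjective_induction (P : ∀ ⦃A B : Art Λ k⦄, (B ⟶ A) → Prop)
    (hiso : ∀ ⦃A B : Art Λ k⦄ (e : B ⟶ A), IsIso e → P e)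
    (hcomp : ∀ ⦃A B C : Art Λ k⦄ (p : C ⟶ B) (q : B ⟶ A), IsSmallExt p → Function.Surjective q → P q → P (p ≫ q))
    ⦃A B : Art Λ k⦄ (f : B ⟶ A) (hf : Function.Surjective f) : P f := by
  have key : ∀ (K : Ideal B) (C : Art Λ k) (g : B ⟶ C) (h : C ⟶ A), Function.Surjective g →
      RingHom.ker g.toAlgHom = K → g ≫ h = f → P h := by
    intro K
    induction K using WellFoundedGT.induction with
    | ind K ih =>
      intro C g h hg hK hgh
      have hh : Function.Surjective h := by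
        intro a
        obtain ⟨b, hb⟩ := hf a
        exact ⟨g b, by rw [← hb, ← hgh]; rfl⟩
      by_cases hker : RingHom.ker h.toAlgHom = ⊥
      · exact hiso h (isIso_of_bijective h ⟨(RingHom.injective_iff_ker_eq_bot _).2 hker, hh⟩)
      · obtain ⟨x, hx, hx0, hxm⟩ := exists_socle_mem C _ hker
        have hspan : Ideal.span {x} ≤ RingHom.ker h.toAlgHom := (Ideal.span_singleton_le_iff_mem _).2 hx
        have hle : RingHom.ker h.toAlgHom ≤ IsLocalRing.maximalIdeal C :=
          IsLocalRing.le_maximalIdeal (RingHom.ker_ne_top _)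
        have hm : Ideal.span {x} ≤ IsLocalRing.maximalIdeal C := hspan.trans hle
        have e1 : quotMk C (Ideal.span {x}) hm ≫ quotFactor hm h hspan = h := quotMk_quotFactor hm h hspan
        rw [← e1]
        refine hcomp _ _ (isSmallExt_quotMk_span C x hx0 hxm hm) ?_ ?_
        · intro a
          obtain ⟨c, hc⟩ := hh a
          exact ⟨quotMk C _ hm c, hc⟩
        · refine ih (RingHom.ker (g ≫ quotMk C (Ideal.span {x}) hm).toAlgHom) ?_ _
            (g ≫ quotMk C (Ideal.span {x}) hm) (quotFactor hm h hspan) ?_ rfl ?_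
          · rw [lt_iff_le_and_ne]
            constructor
            · intro b hb
              rw [← hK] at hb
              rw [RingHom.mem_ker] at hb ⊢
              change quotMk C _ hm (g b) = 0
              have : g b = 0 := hb
              rw [this]
              exact map_zero (quotMk C (Ideal.span {x}) hm).toAlgHom
            · intro he
              obtain ⟨b, hb⟩ := hg x
              have h1 : b ∈ RingHom.ker (g ≫ quotMk C (Ideal.span {x}) hm).toAlgHom := by
                rw [RingHom.mem_ker]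
                change quotMk C _ hm (g b) = 0
                rw [hb]
                exact Ideal.Quotient.eq_zero_iff_mem.2 (Ideal.mem_span_singleton_self x)
              rw [← he, ← hK, RingHom.mem_ker] at h1
              exact hx0 (hb.symm.trans h1)
          · exact (quotMk_surjective C _ hm).comp hg
          · rw [Category.assoc, e1, hgh]
  exact key (RingHom.ker (𝟙 B : B ⟶ B).toAlgHom) B (𝟙 B) f Function.surjective_id rfl (Category.id_comp f)

end Induction

end K724.Basic
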