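import Groth.Agent.ArtFun.K724.Smooth
import Groth.Prelude.Def_ArtFun5
import Mathlib.RingTheory.AdicCompletion.RingHom

/-!
Formal elements and families (helper724): towers, families from compatible elements, glueing of compatible maps into a
complete local ring, versal families induce all formal elements.
-/

set_option autoImplicit false
universe u v
open CategoryTheory
open ArtFun ArtFun.Art

namespace K724.Formal

open K724.Basic K724.Smooth IsLocalRing

variable {Λ : Type u} {k : Type u} [CommRing Λ] [Field k] [Algebra Λ k]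

section Factor

variable {R : Type u} [CommRing R] [Algebra Λ R] {resR : R →ₐ[Λ] k}

/-- Factorisation of an element of `h_R(A)` through a surjective one with smaller kernel. -/
theorem exists_factor {B A : Art Λ k} (π : HomSet R resR B) (hπ : Function.Surjective π.1) (φ : HomSet R resR A)
    (h : RingHom.ker π.1 ≤ RingHom.ker φ.1) : ∃ f : B ⟶ A, HomSet.map f π = φ := by
  let e : (R ⧸ RingHom.ker π.1) ≃ₐ[Λ] B := Ideal.quotientKerAlgEquivOfSurjective hπ
  let g : B →ₐ[Λ] A := (Ideal.Quotient.liftₐ (RingHom.ker π.1) φ.1 (fun a ha => h ha)).comp e.symm.toAlgHom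
  have hg : ∀ r, g (π.1 r) = φ.1 r := by
    intro r
    have h1 : e.symm (π.1 r) = Ideal.Quotient.mk _ r := by
      rw [AlgEquiv.symm_apply_eq]; rfl
    change (Ideal.Quotient.liftₐ (RingHom.ker π.1) φ.1 (fun a ha => h ha)) (e.symm (π.1 r)) = _
    rw [h1]
    rfl
  refine ⟨⟨g, ?_⟩, Subtype.ext (AlgHom.ext hg)⟩
  apply AlgHom.ext
  intro b
  obtain ⟨r, rfl⟩ := hπ b
  change A.res (g (π.1 r)) = B.res (π.1 r)
  rw [hg]
  exact (DFunLike.congr_fun φ.2 r).trans (DFunLike.congr_fun π.2 r).symm

theorem factor_unique {B A : Art Λ k} {π : HomSet R resR B} (hπ : Function.Surjective π.1) {f g : B ⟶ A}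
    (h : HomSet.map f π = HomSet.map g π) : f = g := by
  apply hom_ext
  apply AlgHom.ext
  intro b
  obtain ⟨r, rfl⟩ := hπ b
  exact DFunLike.congr_fun (congrArg Subtype.val h) r

theorem map_map_apply {A B C : Art Λ k} (f : A ⟶ B) (g : B ⟶ C) (φ : HomSet R resR A) :
    HomSet.map g (HomSet.map f φ) = HomSet.map (f ≫ g) φ := rfl

theorem map_id_apply' {A : Art Λ k} (φ : HomSet R resR A) : HomSet.map (𝟙 A) φ = φ := rfl

/-- Elements of `h_R(A)` kill a power of the maximal ideal. -/
theorem exists_pow_le_ker {R : Type u} [CommRing R] [Algebra Λ R] {resR : R →ₐ[Λ] k} (A : Art Λ k)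
    (φ : HomSet R resR A) : ∃ n : ℕ, (RingHom.ker resR) ^ (n + 1) ≤ RingHom.ker φ.1 := by
  obtain ⟨n, hn⟩ := (isArtinianRing_iff_isNilpotent_maximalIdeal A).1 inferInstance
  refine ⟨n, ?_⟩
  have h1 : (RingHom.ker resR) ≤ (maximalIdeal A).comap φ.1 := by
    intro r hr
    rw [Ideal.mem_comap, mem_maximalIdeal_iff]
    have := DFunLike.congr_fun φ.2 r
    exact this.trans hr
  calc (RingHom.ker resR) ^ (n + 1) ≤ ((maximalIdeal A).comap φ.1) ^ (n + 1) := Ideal.pow_right_mono h1 _
    _ ≤ ((maximalIdeal A) ^ (n + 1)).comap φ.1 := Ideal.le_comap_pow _ _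
    _ ≤ ((maximalIdeal A) ^ n).comap φ.1 := Ideal.comap_mono (Ideal.pow_le_pow_right (Nat.le_succ n))
    _ = RingHom.ker φ.1 := by
      rw [hn]
      rfl

end Factor

/-- A tower of objects approximating an augmented algebra. -/
structure Tower (R : Type u) [CommRing R] [Algebra Λ R] (resR : R →ₐ[Λ] k) where
  obj : ℕ → Art Λ k
  π : ∀ n, HomSet R resR (obj n)
  surj : ∀ n, Function.Surjective (π n).1
  trans : ∀ n, obj (n + 1) ⟶ obj n
  trans_π : ∀ n, HomSet.map (trans n) (π (n + 1)) = π n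
  cofinal : ∀ (A : Art Λ k) (φ : HomSet R resR A), ∃ n, RingHom.ker (π n).1 ≤ RingHom.ker φ.1

namespace Tower

variable {R : Type u} [CommRing R] [Algebra Λ R] {resR : R →ₐ[Λ] k} (T : Tower R resR)

theorem exists_trans (n d : ℕ) : ∃ f : T.obj (n + d) ⟶ T.obj n, HomSet.map f (T.π (n + d)) = T.π n ∧
    ∀ (F : Art Λ k ⥤ Type v) (u : ∀ n, F.obj (T.obj n)), (∀ n, F.map (T.trans n) (u (n + 1)) = u n) →
      F.map f (u (n + d)) = u n := by
  induction d with
  | zero => exact ⟨𝟙 _, rfl, fun F u _ => map_id_apply F _ _⟩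
  | succ d ih =>
    obtain ⟨f, hf, hf'⟩ := ih
    refine ⟨T.trans (n + d) ≫ f, ?_, fun F u hu => ?_⟩
    · rw [← map_map_apply, ← hf]
      congr 1
      exact T.trans_π (n + d)
    · rw [← map_comp_apply]
      have h1 : F.map (T.trans (n + d)) (u (n + (d + 1))) = u (n + d) := hu (n + d)
      rw [h1]
      exact hf' F u hu

/-- The family attached to compatible elements on a tower. -/
noncomputable def family (F : Art Λ k ⥤ Type v) (u : ∀ n, F.obj (T.obj n)) 
    (hu : ∀ n, F.map (T.trans n) (u (n + 1)) = u n) :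
    Family R resR F :=
  have key : ∀ (A : Art Λ k) (φ : HomSet R resR A), ∃ x : F.obj A, ∀ (n : ℕ) (f : T.obj n ⟶ A),
      HomSet.map f (T.π n) = φ → F.map f (u n) = x := by
    intro A φ
    obtain ⟨n, hn⟩ := T.cofinal A φ
    obtain ⟨f, hf⟩ := exists_factor (T.π n) (T.surj n) φ hn
    refine ⟨F.map f (u n), fun m g hg => ?_⟩
    -- compare at level n + m
    obtain ⟨a, ha, ha'⟩ := T.exists_trans n m
    obtain ⟨b, hb, hb'⟩ := T.exists_trans m n
    have e : ∀ (N : ℕ) (h : N = n + m), ∃ c : T.obj N ⟶ T.obj n, HomSet.map c (T.π N) = T.π n ∧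
        F.map c (u N) = u n := by
      rintro N rfl
      exact ⟨a, ha, ha' F u hu⟩
    obtain ⟨c, hc, hc'⟩ := e (m + n) (Nat.add_comm m n)
    have h1 : b ≫ g = c ≫ f := by
      apply factor_unique (T.surj (m + n))
      rw [← map_map_apply, ← map_map_apply, hb, hc, hf, hg]
    rw [← hb' F u hu, ← hc', map_comp_apply, map_comp_apply, h1]
  { app := fun A φ => (key A φ).choose
    natural := fun {A B} g φ => by
      obtain ⟨n, hn⟩ := T.cofinal A φ
      obtain ⟨f, hf⟩ := exists_factor (T.π n) (T.surj n) φ hn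
      rw [← (key A φ).choose_spec n f hf, ← (key B (HomSet.map g φ)).choose_spec n (f ≫ g) (by
        rw [← map_map_apply, hf]), map_comp_apply] }

theorem family_app (F : Art Λ k ⥤ Type v) (u : ∀ n, F.obj (T.obj n))
    (hu : ∀ n, F.map (T.trans n) (u (n + 1)) = u n) (n : ℕ) :
    (T.family F u hu).app (T.obj n) (T.π n) = u n := by
  have key : ∀ (A : Art Λ k) (φ : HomSet R resR A), ∃ x : F.obj A, ∀ (n : ℕ) (f : T.obj n ⟶ A),
      HomSet.map f (T.π n) = φ → F.map f (u n) = x := by
    intro A φ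
    refine ⟨(T.family F u hu).app A φ, fun n f hf => ?_⟩
    exact Exists.choose_spec (p := fun x => ∀ (n : ℕ) (f : T.obj n ⟶ A),
      HomSet.map f (T.π n) = φ → F.map f (u n) = x) _ n f hf
  have h1 := Exists.choose_spec (p := fun x => ∀ (m : ℕ) (f : T.obj m ⟶ T.obj n),
      HomSet.map f (T.π m) = T.π n → F.map f (u m) = x) (key (T.obj n) (T.π n)) n (𝟙 _) (map_id_apply' _)
  rw [map_id_apply] at h1
  exact h1.symm

/-- A family is determined by its values on the tower. -/
theorem family_ext {F : Art Λ k ⥤ Type v} {ξ η : Family R resR F}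
    (h : ∀ n, ξ.app (T.obj n) (T.π n) = η.app (T.obj n) (T.π n)) (A : Art Λ k) (φ : HomSet R resR A) :
    ξ.app A φ = η.app A φ := by
  obtain ⟨n, hn⟩ := T.cofinal A φ
  obtain ⟨f, hf⟩ := exists_factor (T.π n) (T.surj n) φ hn
  rw [← hf, ξ.natural, η.natural, h]

end Tower

section CRing

variable (S : CRing Λ k)

theorem ker_res_eq : RingHom.ker S.res = maximalIdeal S.carrier := by
  ext a
  rw [RingHom.mem_ker]
  exact (CRing.mem_maximalIdeal_iff S a).symm

theorem ker_truncHom (n : ℕ) : RingHom.ker (S.truncHom n).1 = maximalIdeal S.carrier ^ (n + 1) := by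
  ext a
  rw [RingHom.mem_ker]
  exact Ideal.Quotient.eq_zero_iff_mem

theorem truncHom_surjective (n : ℕ) : Function.Surjective (S.truncHom n).1 := Ideal.Quotient.mk_surjective

/-- The tower of truncations of a coefficient ring. -/
noncomputable def truncTower : Tower S.carrier S.res where
  obj := S.trunc
  π := S.truncHom
  surj := truncHom_surjective S
  trans := S.truncMap
  trans_π := CRing.truncMap_truncHom S
  cofinal A φ := by
    obtain ⟨n, hn⟩ := exists_pow_le_ker A φ
    refine ⟨n, ?_⟩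
    rw [ker_truncHom, ← ker_res_eq]
    exact hn

/-- The family of a formal element. -/
noncomputable def familyOfFormalElt {F : Art Λ k ⥤ Type v} (u : FormalElt F S) : Family S.carrier S.res F :=
  (truncTower S).family F u.elt u.compat

theorem toFormalElt_familyOfFormalElt {F : Art Λ k ⥤ Type v} (u : FormalElt F S) :
    (familyOfFormalElt S u).toFormalElt = u :=
  FormalElt.ext' fun n => (truncTower S).family_app F u.elt u.compat n

/-- A family is determined by its formal element. -/
theorem family_eq_of_toFormalElt_eq {F : Art Λ k ⥤ Type v} {ξ η : Family S.carrier S.res F}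
    (h : ξ.toFormalElt = η.toFormalElt) (A : Art Λ k) (φ : HomSet S.carrier S.res A) : ξ.app A φ = η.app A φ :=
  (truncTower S).family_ext (fun n => congrFun (congrArg FormalElt.elt h) n) A φ

/-- Compatible maps to the truncations glue to a map to the complete ring. -/
theorem exists_glue {P : Type u} [CommRing P] [Algebra Λ P] (resP : P →ₐ[Λ] k)
    (g : ∀ n, HomSet P resP (S.trunc n)) (hg : ∀ n, HomSet.map (S.truncMap n) (g (n + 1)) = g n) :
    ∃ f : P →ₐ[Λ] S.carrier, S.res.comp f = resP ∧ ∀ n, (S.truncHom n).1.comp f = (g n).1 := by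
  haveI : IsAdicComplete (maximalIdeal S.carrier) S.carrier := S.isAdicComplete
  have ha : StrictMono (fun n : ℕ => n + 1) := fun a b h => Nat.succ_lt_succ h
  let g' : ∀ n : ℕ, P →+* S.carrier ⧸ maximalIdeal S.carrier ^ (n + 1) := fun n => (g n).1.toRingHom
  have hg' : ∀ {m : ℕ}, (Ideal.Quotient.factorPow (maximalIdeal S.carrier) (ha.monotone m.le_succ)).comp (g' (m + 1)) =
      g' m := by
    intro m
    apply RingHom.ext
    intro x
    have := DFunLike.congr_fun (congrArg Subtype.val (hg m)) x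
    change _ = (g m).1 x
    rw [← this]
    change _ = (S.truncMap m) ((g (m + 1)).1 x)
    obtain ⟨s, hs⟩ := Ideal.Quotient.mk_surjective ((g (m + 1)).1 x : S.carrier ⧸ maximalIdeal S.carrier ^ (m + 2))
    rw [← hs]
    change (Ideal.Quotient.factorPow (maximalIdeal S.carrier) (ha.monotone m.le_succ)) ((g (m + 1)).1 x) = _
    rw [← hs]
    rfl
  let f₀ : P →+* S.carrier := IsAdicComplete.StrictMono.liftRingHom (maximalIdeal S.carrier) ha g' hg'
  have hf₀ : ∀ (n : ℕ) (x : P), Ideal.Quotient.mk (maximalIdeal S.carrier ^ (n + 1)) (f₀ x) = g' n x := fun n x =>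
    IsAdicComplete.StrictMono.mk_liftRingHom (maximalIdeal S.carrier) ha g' hg' x
  have hcomm : ∀ r : Λ, f₀ (algebraMap Λ P r) = algebraMap Λ S.carrier r := by
    intro r
    have h1 : ∀ n : ℕ, f₀ (algebraMap Λ P r) - algebraMap Λ S.carrier r ∈ maximalIdeal S.carrier ^ (n + 1) := by
      intro n
      rw [← Ideal.Quotient.eq, hf₀]
      exact (g n).1.commutes r
    rw [← sub_eq_zero]
    apply IsHausdorff.haus (I := maximalIdeal S.carrier) inferInstance
    intro n
    rw [SModEq.zero, smul_eq_mul, Ideal.mul_top]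
    exact Ideal.pow_le_pow_right (Nat.le_succ n) (h1 n)
  let f : P →ₐ[Λ] S.carrier := { f₀ with commutes' := hcomm }
  refine ⟨f, ?_, fun n => AlgHom.ext fun x => hf₀ n x⟩
  apply AlgHom.ext
  intro x
  have h1 := DFunLike.congr_fun (g 0).2 x
  rw [← h1]
  change S.res (f₀ x) = (S.trunc 0).res ((g 0).1 x)
  have h2 : (g 0).1 x = (S.truncHom 0).1 (f₀ x) := (hf₀ 0 x).symm
  rw [h2]
  exact (DFunLike.congr_fun (S.truncHom 0).2 (f₀ x)).symm

/-- Maps into a complete ring are determined by their truncations. -/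
theorem algHom_ext_of_trunc {P : Type u} [CommRing P] [Algebra Λ P] {f g : P →ₐ[Λ] S.carrier}
    (h : ∀ n, (S.truncHom n).1.comp f = (S.truncHom n).1.comp g) : f = g := by
  haveI : IsAdicComplete (maximalIdeal S.carrier) S.carrier := S.isAdicComplete
  apply AlgHom.ext
  intro x
  rw [← sub_eq_zero]
  apply IsHausdorff.haus (I := maximalIdeal S.carrier) inferInstance
  intro n
  rw [SModEq.zero, smul_eq_mul, Ideal.mul_top]
  refine Ideal.pow_le_pow_right (Nat.le_succ n) ?_
  rw [← Ideal.Quotient.eq]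
  exact DFunLike.congr_fun (h n) x

/-- A versal family lifts every formal element, from an arbitrary augmented algebra. -/
theorem exists_along_of_isVersal {R : Type u} [CommRing R] [Algebra Λ R] {resR : R →ₐ[Λ] k}
    {F : Art Λ k ⥤ Type v} (h0 : H0 F) (ξ : Family R resR F) (hξ : IsVersal ξ) (η : FormalElt F S) :
    ∃ (g : R →ₐ[Λ] S.carrier) (hg : S.res.comp g = resR), (ξ.along g hg).toFormalElt = η := by
  -- recursive construction
  have hstep : ∀ (n : ℕ) (φ : HomSet R resR (S.trunc n)), ξ.app _ φ = η.elt n →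
      ∃ ψ : HomSet R resR (S.trunc (n + 1)), HomSet.map (S.truncMap n) ψ = φ ∧ ξ.app _ ψ = η.elt (n + 1) := by
    intro n φ hφ
    refine hξ (S.truncMap n) ?_ φ (η.elt (n + 1)) (by rw [η.compat, hφ])
    intro x
    obtain ⟨s, rfl⟩ := truncHom_surjective S n x
    exact ⟨(S.truncHom (n + 1)).1 s, rfl⟩
  obtain ⟨φ₀, hφ₀⟩ := surjective_app_of_isVersal h0 ξ hξ (S.trunc 0) (η.elt 0)
  let seq : ∀ n : ℕ, {φ : HomSet R resR (S.trunc n) // ξ.app _ φ = η.elt n} := fun n =>
    Nat.rec ⟨φ₀, hφ₀⟩ (fun n φ => ⟨(hstep n φ.1 φ.2).choose, (hstep n φ.1 φ.2).choose_spec.2⟩) n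
  have hseq : ∀ n, HomSet.map (S.truncMap n) (seq (n + 1)).1 = (seq n).1 := fun n =>
    (hstep n (seq n).1 (seq n).2).choose_spec.1
  obtain ⟨g, hg, hg'⟩ := exists_glue S resR (fun n => (seq n).1) hseq
  refine ⟨g, hg, FormalElt.ext' fun n => ?_⟩
  rw [← (seq n).2]
  change ξ.app _ ⟨(S.truncHom n).1.comp g, _⟩ = _
  congr 1
  exact Subtype.ext (hg' n)

end CRing

end K724.Formal
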