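import Groth.Agent.ArtFun.K724.HullCore
import Groth.Agent.ArtFun.K725.Separable
import Mathlib.RingTheory.Unramified.Field
import Mathlib.LinearAlgebra.Dual.Lemmas

/-!
Existence of versal families and hulls for arbitrary finite `Λ → k` (helper724).
-/

set_option autoImplicit false
universe u v
open CategoryTheory
open ArtFun ArtFun.Art

namespace K724.HullExist

open IsLocalRing K680.Opn K680.Tow K680.Start K724.HullCore

variable {Λ : Type u} {k : Type u} [CommRing Λ] [Field k] [Algebra Λ k]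

/-- A smooth coefficient ring with a surjection to `k ⊕ kⁿ`. -/
theorem exists_smooth_surjection [IsNoetherianRing Λ] [Module.Finite Λ k] (n : ℕ) :
    ∃ (P : CRing Λ k) (_ : IsSmoothFunctor (hR P.carrier P.res)) (π₀ : HomSet P.carrier P.res (E Λ k n)),
      Function.Surjective π₀.1 := by
  classical
  obtain ⟨m, f, hf⟩ := Algebra.FiniteType.iff_quotient_mvPolynomial''.1
    (inferInstance : Algebra.FiniteType Λ k)
  let σ := ULift.{u} (Fin m ⊕ Fin n)
  let g : σ → k := fun i => Sum.elim (fun j => f (MvPolynomial.X j)) (fun _ => 0) i.down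
  let ρ : MvPolynomial σ Λ →ₐ[Λ] k := MvPolynomial.aeval g
  have hfu : ∀ q : MvPolynomial (Fin m) Λ, f q = MvPolynomial.aeval (f ∘ MvPolynomial.X) q := fun q =>
    DFunLike.congr_fun (MvPolynomial.aeval_unique f) q
  have hρf : ∀ q : MvPolynomial (Fin m) Λ, ρ (MvPolynomial.rename (fun j => ULift.up (Sum.inl j)) q) = f q := by
    intro q
    rw [MvPolynomial.aeval_rename, hfu]
    rfl
  have hρ : Function.Surjective ρ := fun c => by
    obtain ⟨q, hq⟩ := hf c
    exact ⟨_, (hρf q).trans hq⟩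
  have hfg : (RingHom.ker ρ).FG := IsNoetherian.noetherian _
  let P := K725.Completion.cpl ρ hρ hfg
  let G : σ → TrivSqZeroExt k (Fin n → k) := fun i => Sum.elim (fun j => TrivSqZeroExt.inl (f (MvPolynomial.X j)))
    (fun j => TrivSqZeroExt.inr (Pi.single j 1)) i.down
  let ρ' : MvPolynomial σ Λ →ₐ[Λ] (E Λ k n) := MvPolynomial.aeval G
  have hρ' : (E Λ k n).res.comp ρ' = ρ := by
    refine MvPolynomial.algHom_ext fun i => ?_
    change (E Λ k n).res (ρ' (MvPolynomial.X i)) = ρ (MvPolynomial.X i)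
    rw [MvPolynomial.aeval_X, MvPolynomial.aeval_X]
    rcases i with ⟨i | i⟩
    · rfl
    · rfl
  obtain ⟨π₀, hπ₀⟩ := (K725.Completion.bijective_restrict_art ρ hρ hfg (E Λ k n)).2 ⟨ρ', hρ'⟩
  have hπ : ∀ x, π₀.1 (K725.Completion.toCpl ρ hρ hfg x) = ρ' x := fun x => congrArg (fun h => h.1 x) hπ₀
  refine ⟨P, K725.SmoothRing.isSmoothFunctor_cpl ρ hρ hfg, π₀, ?_⟩
  refine surjective_of_mem π₀ (fun i => K725.Completion.toCpl ρ hρ hfg (MvPolynomial.X ⟨Sum.inr i⟩)) ?_ ?_
  · intro i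
    refine (hπ _).trans ?_
    exact MvPolynomial.aeval_X _ _
  · intro c
    obtain ⟨q, hq⟩ := hf c
    refine ⟨K725.Completion.toCpl ρ hρ hfg (MvPolynomial.rename (fun j => ULift.up (Sum.inl j)) q), ?_⟩
    refine (hπ _).trans ?_
    change MvPolynomial.aeval G (MvPolynomial.rename _ q) = TrivSqZeroExt.inlAlgHom Λ k (Fin n → k) c
    rw [MvPolynomial.aeval_rename, ← hq, hfu, MvPolynomial.comp_aeval_apply]
    rfl

theorem hasVersal [IsNoetherianRing Λ] [Module.Finite Λ k]
    (F : Art Λ k ⥤ Type v) [TangentStr F] (h0 : H0 F) (h1 : S1 F) (h2 : Heps F) (h3 : Hfin F) :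
    HasVersal F := by
  have : Module.Finite k (TangentSpace F) := h3
  obtain ⟨n, ⟨b⟩⟩ : ∃ n, Nonempty (Module.Basis (Fin n) k (TangentSpace F)) := ⟨_, ⟨Module.finBasis k _⟩⟩
  obtain ⟨P, hP, π₀, hπs⟩ := exists_smooth_surjection (Λ := Λ) (k := k) n
  obtain ⟨R, ξ, hξ, -⟩ := exists_versal F h0 h1 h2 b P hP π₀ hπs
  exact ⟨⟨R, ξ, hξ⟩⟩

section Hull

open Polynomial

theorem isSeparable_of_isField {K : Type u} [CommRing K] [Algebra K k] (hK : IsField K)
    [Algebra.FormallyUnramified K k] [Module.Finite K k] : Algebra.IsSeparable K k := by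
  letI := hK.toField
  exact Algebra.FormallyUnramified.isSeparable K k

theorem formallyUnramified_of_subsingleton_derivation (hk : Subsingleton (Derivation Λ k k)) :
    Algebra.FormallyUnramified Λ k := by
  rw [Algebra.formallyUnramified_iff]
  have h1 : Subsingleton (Ω[k⁄Λ] →ₗ[k] k) := (KaehlerDifferential.linearMapEquivDerivation Λ k).toEquiv.subsingleton
  exact (Module.subsingleton_dual_iff k).1 h1

/-- If `k` has no `Λ`-derivations then it is separable over the image of `Λ`. -/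
theorem isSeparable_of_subsingleton_derivation [Module.Finite Λ k] (hk : Subsingleton (Derivation Λ k k)) :
    Algebra.IsSeparable (↥(algebraMap Λ k).range) k := by
  haveI := formallyUnramified_of_subsingleton_derivation hk
  letI : Algebra Λ (algebraMap Λ k).range := (algebraMap Λ k).rangeRestrict.toAlgebra
  haveI : IsScalarTower Λ (algebraMap Λ k).range k := IsScalarTower.of_algebraMap_eq fun _ => rfl
  haveI : Module.Finite (algebraMap Λ k).range k := Module.Finite.of_restrictScalars_finite Λ _ _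
  haveI : Algebra.FormallyUnramified (algebraMap Λ k).range k := Algebra.FormallyUnramified.of_restrictScalars Λ _ _
  exact isSeparable_of_isField K725.Separable.isField_range

variable {m n : ℕ}

/-- The ideal of separable equations. -/
noncomputable def eqI (p : Fin m → Λ[X]) (n : ℕ) : Ideal (MvPolynomial (ULift.{u} (Fin m ⊕ Fin n)) Λ) :=
  Ideal.span (Set.range fun j : Fin m => aeval (MvPolynomial.X ⟨Sum.inl j⟩ : MvPolynomial (ULift.{u} (Fin m ⊕ Fin n)) Λ) (p j))

/-- The algebra `Λ[x₁..xₘ,y₁..yₙ]/(p₁(x₁),…,pₘ(xₘ))`. -/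
abbrev EqT (p : Fin m → Λ[X]) (n : ℕ) : Type u := MvPolynomial (ULift.{u} (Fin m ⊕ Fin n)) Λ ⧸ eqI p n

/-- The variable. -/
noncomputable def vr (p : Fin m → Λ[X]) (n : ℕ) (i : Fin m ⊕ Fin n) : EqT p n := Ideal.Quotient.mk _ (MvPolynomial.X ⟨i⟩)

lemma aeval_vr (p : Fin m → Λ[X]) (n : ℕ) (j : Fin m) : aeval (vr p n (Sum.inl j)) (p j) = 0 := by
  have h1 : aeval (vr p n (Sum.inl j)) (p j) = Ideal.Quotient.mkₐ Λ (eqI p n)
      (aeval (MvPolynomial.X ⟨Sum.inl j⟩ : MvPolynomial (ULift.{u} (Fin m ⊕ Fin n)) Λ) (p j)) := by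
    rw [← aeval_algHom_apply]
    rfl
  rw [h1]
  exact Ideal.Quotient.eq_zero_iff_mem.2 (Ideal.subset_span ⟨j, rfl⟩)

/-- Maps out of `EqT`. -/
lemma exists_hom (p : Fin m → Λ[X]) {A : Type*} [CommRing A] [Algebra Λ A] (a : Fin m ⊕ Fin n → A)
    (h : ∀ j, aeval (a (Sum.inl j)) (p j) = 0) : ∃ φ : EqT p n →ₐ[Λ] A, ∀ i, φ (vr p n i) = a i := by
  let φ₀ : MvPolynomial (ULift.{u} (Fin m ⊕ Fin n)) Λ →ₐ[Λ] A := MvPolynomial.aeval fun i => a i.down
  have h1 : ∀ x ∈ eqI p n, φ₀ x = 0 := by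
    have h2 : eqI p n ≤ RingHom.ker φ₀ := by
      rw [eqI, Ideal.span_le]
      rintro _ ⟨j, rfl⟩
      change φ₀ _ = 0
      rw [← aeval_algHom_apply]
      have h3 : φ₀ (MvPolynomial.X ⟨Sum.inl j⟩) = a (Sum.inl j) := MvPolynomial.aeval_X _ _
      rw [h3]
      exact h j
    exact h2
  refine ⟨Ideal.Quotient.liftₐ (eqI p n) φ₀ h1, fun i => ?_⟩
  exact MvPolynomial.aeval_X _ _

lemma hom_ext_vr (p : Fin m → Λ[X]) {A : Type*} [CommRing A] [Algebra Λ A] {φ ψ : EqT p n →ₐ[Λ] A}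
    (h : ∀ i, φ (vr p n i) = ψ (vr p n i)) : φ = ψ := by
  apply Ideal.Quotient.algHom_ext
  apply MvPolynomial.algHom_ext
  intro i
  exact h i.down

/-- A smooth coefficient ring with a surjection to `k ⊕ kⁿ` over which all maps to `k[ε]` factor. -/
theorem exists_smooth_surjection_factor [IsNoetherianRing Λ] [Module.Finite Λ k]
    (hk : Subsingleton (Derivation Λ k k)) (n : ℕ) :
    ∃ (P : CRing Λ k) (_ : IsSmoothFunctor (hR P.carrier P.res)) (π₀ : HomSet P.carrier P.res (E Λ k n)),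
      Function.Surjective π₀.1 ∧
      ∀ φ : HomSet P.carrier P.res (dual Λ k), ∃ ℓ, φ = HomSet.map (toDual ℓ) π₀ := by
  classical
  haveI := isSeparable_of_subsingleton_derivation hk
  obtain ⟨m, f, hf⟩ := Algebra.FiniteType.iff_quotient_mvPolynomial''.1
    (inferInstance : Algebra.FiniteType Λ k)
  have hfu : ∀ q : MvPolynomial (Fin m) Λ, f q = MvPolynomial.aeval (f ∘ MvPolynomial.X) q := fun q =>
    DFunLike.congr_fun (MvPolynomial.aeval_unique f) q
  choose p hp hp' using fun j : Fin m => K724.Hensel.exists_poly_of_isSeparable (Λ := Λ) (f (MvPolynomial.X j))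
    (Algebra.IsSeparable.isSeparable _ _)
  obtain ⟨ρ, hρv⟩ := exists_hom p (Sum.elim (fun j => f (MvPolynomial.X j)) (fun _ : Fin n => (0 : k))) hp
  have hρf : ∀ q : MvPolynomial (Fin m) Λ, ρ (MvPolynomial.aeval (fun j => vr p n (Sum.inl j)) q) = f q := by
    intro q
    rw [hfu, MvPolynomial.comp_aeval_apply]
    congr 2
    funext j
    exact hρv (Sum.inl j)
  have hρ : Function.Surjective ρ := fun c => by
    obtain ⟨q, hq⟩ := hf c
    exact ⟨_, (hρf q).trans hq⟩
  have hfg : (RingHom.ker ρ).FG := IsNoetherian.noetherian _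
  let P := K725.Completion.cpl ρ hρ hfg
  -- values at the variables `x`
  have hx : ∀ {A : Art Λ k} (φ ψ : EqT p n →ₐ[Λ] A), A.res.comp φ = ρ → A.res.comp ψ = ρ → ∀ j,
      φ (vr p n (Sum.inl j)) = ψ (vr p n (Sum.inl j)) := by
    intro A φ ψ h h' j
    obtain ⟨a, -, ha⟩ := K724.Hensel.existsUnique_root A (p j) _ (hp j) (hp' j)
    have h1 : ∀ φ : EqT p n →ₐ[Λ] A, A.res.comp φ = ρ → φ (vr p n (Sum.inl j)) = a := by
      intro φ h
      apply ha
      constructor
      · exact (congrArg (fun g => g (vr p n (Sum.inl j))) h).trans (hρv _)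
      · rw [aeval_algHom_apply, aeval_vr, map_zero]
    rw [h1 φ h, h1 ψ h']
  have hsm : IsSmoothFunctor (hR P.carrier P.res) := by
    intro B A μ hμ φ
    let φ' : HomSet P.carrier P.res A := φ
    let φ₀ : EqT p n →ₐ[Λ] A := φ'.1.comp (K725.Completion.toCpl ρ hρ hfg)
    have hφ₀ : A.res.comp φ₀ = ρ := by
      rw [← AlgHom.comp_assoc, φ'.2, K725.Completion.res_comp_toCpl]
    choose b hb using fun i : Fin n => hμ (φ₀ (vr p n (Sum.inr i)))
    choose c hc using fun j : Fin m => (K724.Hensel.existsUnique_root B (p j) _ (hp j) (hp' j)).exists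
    obtain ⟨ψ₀, hψ₀⟩ := exists_hom p (Sum.elim c b) fun j => (hc j).2
    have h2 : B.res.comp ψ₀ = ρ := by
      apply hom_ext_vr
      intro i
      change B.res (ψ₀ _) = _
      rw [hψ₀, hρv]
      rcases i with i | i
      · exact (hc i).1
      · have h3 := congrArg (fun g => g (vr p n (Sum.inr i))) hφ₀
        have h4 : A.res (φ₀ (vr p n (Sum.inr i))) = 0 := h3.trans (hρv _)
        change B.res (b i) = 0
        rw [← h4, ← hb]
        exact (Art.res_app μ (b i)).symm
    have h1 : μ.toAlgHom.comp ψ₀ = φ₀ := by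
      have h3 : A.res.comp (μ.toAlgHom.comp ψ₀) = ρ := by rw [← AlgHom.comp_assoc, μ.res_comp, h2]
      apply hom_ext_vr
      intro i
      rcases i with i | i
      · exact hx _ _ h3 hφ₀ i
      · change μ.toAlgHom (ψ₀ _) = _
        rw [hψ₀]
        exact hb i
    obtain ⟨ψ, ⟨h3, h4⟩, -⟩ := K725.Completion.existsUnique_extend_art ρ hρ hfg B ψ₀ h2
    let ψ' : HomSet P.carrier P.res B := ⟨ψ, h3⟩
    refine ⟨ψ', ?_⟩
    refine (K725.Completion.bijective_restrict_art ρ hρ hfg A).1 ?_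
    apply Subtype.ext
    change (μ.toAlgHom.comp ψ).comp (K725.Completion.toCpl ρ hρ hfg) = φ₀
    rw [AlgHom.comp_assoc, h4, h1]
  obtain ⟨ρ', hρ'v⟩ := exists_hom p (A := TrivSqZeroExt k (Fin n → k))
    (Sum.elim (fun j => TrivSqZeroExt.inl (f (MvPolynomial.X j)))
      (fun j => TrivSqZeroExt.inr (Pi.single j 1))) (fun j => by
        change aeval (TrivSqZeroExt.inlAlgHom Λ k (Fin n → k) (f (MvPolynomial.X j))) (p j) = 0
        rw [aeval_algHom_apply, hp, map_zero])
  have hρ' : (E Λ k n).res.comp ρ' = ρ := by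
    apply hom_ext_vr
    intro i
    change (E Λ k n).res (ρ' _) = _
    rw [hρ'v, hρv]
    rcases i with i | i
    · rfl
    · rfl
  obtain ⟨π₀, hπ₀⟩ := (K725.Completion.bijective_restrict_art ρ hρ hfg (E Λ k n)).2 ⟨ρ', hρ'⟩
  have hπ : ∀ x, π₀.1 (K725.Completion.toCpl ρ hρ hfg x) = ρ' x := fun x => congrArg (fun h => h.1 x) hπ₀
  refine ⟨P, hsm, π₀, ?_, ?_⟩
  · refine surjective_of_mem π₀ (fun i => K725.Completion.toCpl ρ hρ hfg (vr p n (Sum.inr i))) ?_ ?_
    · intro i
      refine (hπ _).trans ?_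
      exact hρ'v _
    · intro c
      obtain ⟨q, hq⟩ := hf c
      refine ⟨K725.Completion.toCpl ρ hρ hfg (MvPolynomial.aeval (fun j => vr p n (Sum.inl j)) q), ?_⟩
      refine (hπ _).trans ?_
      change _ = TrivSqZeroExt.inlAlgHom Λ k (Fin n → k) c
      rw [MvPolynomial.comp_aeval_apply, ← hq, hfu, MvPolynomial.comp_aeval_apply]
      congr 2
      funext j
      exact hρ'v (Sum.inl j)
  · intro φ
    let c : Fin n → k := fun i => TrivSqZeroExt.snd (φ.1 (K725.Completion.toCpl ρ hρ hfg (vr p n (Sum.inr i))))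
    have hℓ : ∀ i, (Pi.basisFun k (Fin n)).constr k c (Pi.single i 1) = c i := fun i => by
      have h4 := (Pi.basisFun k (Fin n)).constr_basis k c i
      rwa [Pi.basisFun_apply] at h4
    refine ⟨(Pi.basisFun k (Fin n)).constr k c, ?_⟩
    apply (K725.Completion.bijective_restrict_art ρ hρ hfg (dual Λ k)).1
    apply Subtype.ext
    have h1 : ∀ χ : HomSet P.carrier P.res (dual Λ k), (dual Λ k).res.comp (χ.1.comp (K725.Completion.toCpl ρ hρ hfg)) = ρ := by
      intro χ
      rw [← AlgHom.comp_assoc, χ.2, K725.Completion.res_comp_toCpl]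
    apply hom_ext_vr
    intro i
    rcases i with i | i
    · exact hx _ _ (h1 _) (h1 _) i
    · change φ.1 (K725.Completion.toCpl ρ hρ hfg (vr p n (Sum.inr i))) =
        toDual ((Pi.basisFun k (Fin n)).constr k c) (π₀.1 (K725.Completion.toCpl ρ hρ hfg (vr p n (Sum.inr i))))
      rw [hπ, hρ'v]
      refine TrivSqZeroExt.ext ?_ ?_
      · have h2 := congrArg (fun g => g (vr p n (Sum.inr i))) (h1 φ)
        exact h2.trans (hρv _)
      · exact (hℓ i).symm

theorem hasHull [IsNoetherianRing Λ] [Module.Finite Λ k] (hk : Subsingleton (Derivation Λ k k))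
    (F : Art Λ k ⥤ Type v) [TangentStr F] (h0 : H0 F) (h1 : S1 F) (h2 : Heps F) (h3 : Hfin F) :
    HasHull F := by
  have : Module.Finite k (TangentSpace F) := h3
  obtain ⟨n, ⟨b⟩⟩ : ∃ n, Nonempty (Module.Basis (Fin n) k (TangentSpace F)) := ⟨_, ⟨Module.finBasis k _⟩⟩
  obtain ⟨P, hP, π₀, hπs, hfac⟩ := exists_smooth_surjection_factor (Λ := Λ) (k := k) hk n
  obtain ⟨R, ξ, -, hξ⟩ := exists_versal F h0 h1 h2 b P hP π₀ hπs
  exact ⟨⟨R, ξ, hξ hfac⟩⟩

end Hull

end K724.HullExist
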