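import Groth.Agent.ArtFun.K724.SqZero
import Mathlib.Algebra.Group.MinimalAxioms

/-!
The tangent space of a functor of Artin rings as a vector space (helper724).
-/

set_option autoImplicit false
universe u v
open CategoryTheory
open ArtFun ArtFun.Art

namespace K724.Tangent

open K724.Basic K724.Smooth K724.Dual K724.SqZero IsLocalRing

variable {Λ : Type u} {k : Type u} [CommRing Λ] [Field k] [Algebra Λ k]

section Ob

variable (Λ k)
variable (M : Type u) [AddCommGroup M] [Module k M] [Module kᵐᵒᵖ M] [SMulCommClass k kᵐᵒᵖ M]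
  [IsCentralScalar k M] [Module Λ M] [IsScalarTower Λ k M] [IsScalarTower Λ kᵐᵒᵖ M] [Module.Finite k M]
  (N : Type u) [AddCommGroup N] [Module k N] [Module kᵐᵒᵖ N] [SMulCommClass k kᵐᵒᵖ N]
  [IsCentralScalar k N] [Module Λ N] [IsScalarTower Λ k N] [IsScalarTower Λ kᵐᵒᵖ N] [Module.Finite k N]
  (P : Type u) [AddCommGroup P] [Module k P] [Module kᵐᵒᵖ P] [SMulCommClass k kᵐᵒᵖ P]
  [IsCentralScalar k P] [Module Λ P] [IsScalarTower Λ k P] [IsScalarTower Λ kᵐᵒᵖ P] [Module.Finite k P]

/-- The object `k ⊕ M`. -/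
def ob : Art Λ k :=
  { carrier := TrivSqZeroExt k M
    isLocalRing := isLocalRing_tsze k M
    isArtinianRing := isArtinianRing_tsze k M
    res := TrivSqZeroExt.fstHom Λ k M
    res_surjective := fun a => ⟨TrivSqZeroExt.inl a, rfl⟩ }

variable {M N P}

/-- The map `k ⊕ M → k ⊕ N` of a linear map. -/
def obMap (f : M →ₗ[k] N) : ob Λ k M ⟶ ob Λ k N := ⟨tszeMap f, AlgHom.ext fun _ => rfl⟩

variable {Λ k}

theorem obMap_comp (f : M →ₗ[k] N) (g : N →ₗ[k] P) : obMap Λ k f ≫ obMap Λ k g = obMap Λ k (g ∘ₗ f) :=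
  hom_ext (AlgHom.ext fun _ => rfl)

theorem obMap_id : obMap Λ k (LinearMap.id : M →ₗ[k] M) = 𝟙 (ob Λ k M) := hom_ext (AlgHom.ext fun _ => rfl)

theorem obMap_zero : obMap Λ k (0 : M →ₗ[k] k) = toBase (ob Λ k M) ≫ baseToDual :=
  hom_ext (AlgHom.ext fun _ => TrivSqZeroExt.ext rfl rfl)

/-- The section of `k ⊕ M → k`. -/
def obSection (Λ k : Type u) [CommRing Λ] [Field k] [Algebra Λ k]
    (M : Type u) [AddCommGroup M] [Module k M] [Module kᵐᵒᵖ M] [SMulCommClass k kᵐᵒᵖ M]
    [IsCentralScalar k M] [Module Λ M] [IsScalarTower Λ k M] [IsScalarTower Λ kᵐᵒᵖ M] [Module.Finite k M] :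
    base Λ k ⟶ ob Λ k M :=
  ⟨TrivSqZeroExt.inlAlgHom Λ k M, AlgHom.ext fun _ => rfl⟩

theorem ob_sq : maximalIdeal (ob Λ k M) ^ 2 = ⊥ := by
  rw [eq_bot_iff, sq, Ideal.mul_le]
  intro x hx y hy
  have h1 : TrivSqZeroExt.fst (x : TrivSqZeroExt k M) = 0 := (mem_maximalIdeal_iff (ob Λ k M) x).1 hx
  have h2 : TrivSqZeroExt.fst (y : TrivSqZeroExt k M) = 0 := (mem_maximalIdeal_iff (ob Λ k M) y).1 hy
  rw [Ideal.mem_bot]
  refine TrivSqZeroExt.ext ?_ ?_
  · change TrivSqZeroExt.fst (x : TrivSqZeroExt k M) * TrivSqZeroExt.fst (y : TrivSqZeroExt k M) = 0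
    rw [h1, zero_mul]
  · change TrivSqZeroExt.fst (x : TrivSqZeroExt k M) • TrivSqZeroExt.snd (y : TrivSqZeroExt k M) +
      MulOpposite.op (TrivSqZeroExt.fst (y : TrivSqZeroExt k M)) • TrivSqZeroExt.snd (x : TrivSqZeroExt k M) = 0
    rw [h1, h2, zero_smul, MulOpposite.op_zero, zero_smul, add_zero]

theorem isFibreProd_ob : IsFibreProd (obMap Λ k (LinearMap.fst k M N)) (obMap Λ k (LinearMap.snd k M N))
    (toBase (ob Λ k M)) (toBase (ob Λ k N)) where
  w := by rw [eq_toBase (obMap Λ k _ ≫ toBase _), eq_toBase (obMap Λ k _ ≫ toBase _)]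
  inj b₁ b₂ h₁ h₂ := by
    have e₁ : b₁.fst = b₂.fst := by have e := congrArg TrivSqZeroExt.fst h₁; exact e
    have e₂ : b₁.snd.1 = b₂.snd.1 := by have e := congrArg TrivSqZeroExt.snd h₁; exact e
    have e₃ : b₁.snd.2 = b₂.snd.2 := by have e := congrArg TrivSqZeroExt.snd h₂; exact e
    exact TrivSqZeroExt.ext e₁ (Prod.ext e₂ e₃)
  surj a' a'' h := by
    have h' : a'.fst = a''.fst := h
    exact ⟨(a'.fst, (a'.snd, a''.snd)), TrivSqZeroExt.ext rfl rfl, TrivSqZeroExt.ext h' rfl⟩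

/-- Pairs of elements come from a unique element. -/
theorem exists_pair [IsNoetherianRing Λ] [Module.Finite Λ k] {F : Art Λ k ⥤ Type v} (h0 : H0 F) (h2 : Heps F)
    (x : F.obj (ob Λ k M)) (y : F.obj (ob Λ k N)) :
    ∃ z : F.obj (ob Λ k (M × N)), F.map (obMap Λ k (LinearMap.fst k M N)) z = x ∧
      F.map (obMap Λ k (LinearMap.snd k M N)) z = y := by
  haveI := h0.2
  have hg : Good F (ob Λ k N) := good_of_sq_zero h2 ⟨obSection Λ k N⟩ ob_sq
  exact (cmp_surjective_iff F (isFibreProd_ob (Λ := Λ) (k := k) (M := M) (N := N))).1 (hg _ _ _).2 x y (Subsingleton.elim _ _)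

theorem pair_unique [IsNoetherianRing Λ] [Module.Finite Λ k] {F : Art Λ k ⥤ Type v} (h2 : Heps F)
    (z w : F.obj (ob Λ k (M × N))) (e₁ : F.map (obMap Λ k (LinearMap.fst k M N)) z = F.map (obMap Λ k (LinearMap.fst k M N)) w)
    (e₂ : F.map (obMap Λ k (LinearMap.snd k M N)) z = F.map (obMap Λ k (LinearMap.snd k M N)) w) : z = w := by
  have hg : Good F (ob Λ k N) := good_of_sq_zero h2 ⟨obSection Λ k N⟩ ob_sq
  exact (cmp_injective_iff F (isFibreProd_ob (Λ := Λ) (k := k) (M := M) (N := N))).1 (hg _ _ _).1 z w e₁ e₂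

end Ob

/-- The section `k → k[ε]`, with the target written as `ob`. -/
def bToOb (Λ k : Type u) [CommRing Λ] [Field k] [Algebra Λ k] : base Λ k ⟶ ob Λ k k := baseToDual

theorem obMap_zero' {M : Type u} [AddCommGroup M] [Module k M] [Module kᵐᵒᵖ M] [SMulCommClass k kᵐᵒᵖ M]
    [IsCentralScalar k M] [Module Λ M] [IsScalarTower Λ k M] [IsScalarTower Λ kᵐᵒᵖ M] [Module.Finite k M] :
    obMap Λ k (0 : M →ₗ[k] k) = toBase (ob Λ k M) ≫ bToOb Λ k :=
  hom_ext (AlgHom.ext fun _ => TrivSqZeroExt.ext rfl rfl)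

theorem bToOb_obMap (f : k →ₗ[k] k) : bToOb Λ k ≫ obMap Λ k f = bToOb Λ k :=
  hom_ext (AlgHom.ext fun _ => TrivSqZeroExt.ext rfl (map_zero f))

section Str

variable {F : Art Λ k ⥤ Type v}

variable [IsNoetherianRing Λ] [Module.Finite Λ k] (h0 : H0 F) (h2 : Heps F)

/-- Addition on `F(k[ε])`. -/
noncomputable def tadd (x y : F.obj (ob Λ k k)) : F.obj (ob Λ k k) :=
  F.map (obMap Λ k (LinearMap.fst k k k + LinearMap.snd k k k))
    (exists_pair (Λ := Λ) (k := k) (M := k) (N := k) h0 h2 x y).choose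

variable {M : Type u} [AddCommGroup M] [Module k M] [Module kᵐᵒᵖ M] [SMulCommClass k kᵐᵒᵖ M]
  [IsCentralScalar k M] [Module Λ M] [IsScalarTower Λ k M] [IsScalarTower Λ kᵐᵒᵖ M] [Module.Finite k M]

theorem tadd_map (a b : M →ₗ[k] k) (t : F.obj (ob Λ k M)) :
    tadd h0 h2 (F.map (obMap Λ k a) t) (F.map (obMap Λ k b) t) = F.map (obMap Λ k (a + b)) t := by
  have h := (exists_pair (Λ := Λ) (k := k) (M := k) (N := k) h0 h2 (F.map (obMap Λ k a) t)
    (F.map (obMap Λ k b) t)).choose_spec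
  have h1 : (exists_pair (Λ := Λ) (k := k) (M := k) (N := k) h0 h2 (F.map (obMap Λ k a) t)
      (F.map (obMap Λ k b) t)).choose = F.map (obMap Λ k (a.prod b)) t := by
    apply pair_unique h2
    · rw [h.1, map_comp_apply, obMap_comp]
      rfl
    · rw [h.2, map_comp_apply, obMap_comp]
      rfl
  rw [tadd, h1, map_comp_apply, obMap_comp]
  congr 1

/-- Zero. -/
noncomputable def tzero : F.obj (ob Λ k k) := F.map (bToOb Λ k) h0.1.some

omit [IsNoetherianRing Λ] [Module.Finite Λ k] in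
theorem map_zero_eq (t : F.obj (ob Λ k M)) : F.map (obMap Λ k (0 : M →ₗ[k] k)) t = tzero h0 := by
  haveI := h0.2
  rw [obMap_zero', ← map_comp_apply]
  unfold tzero
  congr 1
  exact Subsingleton.elim _ _

omit [IsNoetherianRing Λ] [Module.Finite Λ k] in
theorem map_id_eq (x : F.obj (ob Λ k k)) : F.map (obMap Λ k (LinearMap.id : k →ₗ[k] k)) x = x := by
  rw [obMap_id]
  exact map_id_apply F _ x

/-- The additive group structure. -/
@[reducible]
noncomputable def tgroup : AddCommGroup (F.obj (ob Λ k k)) :=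
  letI : Zero (F.obj (ob Λ k k)) := ⟨tzero h0⟩
  letI : Add (F.obj (ob Λ k k)) := ⟨tadd h0 h2⟩
  letI : Neg (F.obj (ob Λ k k)) := ⟨fun x => F.map (obMap Λ k ((-1 : k) • LinearMap.id)) x⟩
  { AddGroup.ofLeftAxioms (G := F.obj (ob Λ k k)) (fun x y z => by
        change tadd h0 h2 (tadd h0 h2 x y) z = tadd h0 h2 x (tadd h0 h2 y z)
        obtain ⟨s, hs₁, hs₂⟩ := exists_pair (Λ := Λ) (k := k) (M := k) (N := k) h0 h2 y z
        obtain ⟨t, ht₁, ht₂⟩ := exists_pair (Λ := Λ) (k := k) (M := k) (N := k × k) h0 h2 x s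
        have ey : F.map (obMap Λ k (LinearMap.fst k k k ∘ₗ LinearMap.snd k k (k × k))) t = y := by
          rw [← obMap_comp, ← map_comp_apply, ht₂, hs₁]
        have ez : F.map (obMap Λ k (LinearMap.snd k k k ∘ₗ LinearMap.snd k k (k × k))) t = z := by
          rw [← obMap_comp, ← map_comp_apply, ht₂, hs₂]
        rw [← ht₁, ← ey, ← ez, tadd_map, tadd_map, tadd_map, tadd_map, add_assoc])
    (fun x => by
        change tadd h0 h2 (tzero h0) x = x
        have h := tadd_map h0 h2 (0 : k →ₗ[k] k) LinearMap.id x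
        rw [map_zero_eq h0, map_id_eq, zero_add, map_id_eq] at h
        exact h)
    (fun x => by
        change tadd h0 h2 (F.map (obMap Λ k ((-1 : k) • LinearMap.id)) x) x = tzero h0
        have h := tadd_map h0 h2 ((-1 : k) • LinearMap.id) LinearMap.id x
        rw [map_id_eq] at h
        have e : ((-1 : k) • LinearMap.id + LinearMap.id : k →ₗ[k] k) = 0 := by
          ext; simp
        rw [e, map_zero_eq h0] at h
        exact h) with
    add_comm := fun x y => by
        change tadd h0 h2 x y = tadd h0 h2 y x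
        obtain ⟨t, ht₁, ht₂⟩ := exists_pair (Λ := Λ) (k := k) (M := k) (N := k) h0 h2 x y
        rw [← ht₁, ← ht₂, tadd_map, tadd_map, add_comm] }

theorem tgroup_add (x y : F.obj (ob Λ k k)) : letI := tgroup h0 h2; x + y = tadd h0 h2 x y := rfl

/-- The vector space structure. -/
@[reducible]
noncomputable def tmodule : letI := tgroup h0 h2; Module k (F.obj (ob Λ k k)) :=
  letI := tgroup h0 h2
  { smul := fun c x => F.map (obMap Λ k (c • LinearMap.id)) x
    one_smul := fun x => by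
      change F.map (obMap Λ k ((1 : k) • LinearMap.id)) x = x
      rw [one_smul, map_id_eq]
    mul_smul := fun c d x => by
      change F.map (obMap Λ k ((c * d) • LinearMap.id)) x =
        F.map (obMap Λ k (c • LinearMap.id)) (F.map (obMap Λ k (d • LinearMap.id)) x)
      rw [map_comp_apply, obMap_comp]
      have e : ((c * d) • LinearMap.id : k →ₗ[k] k) = (c • LinearMap.id) ∘ₗ (d • LinearMap.id) := by
        ext
        simp
      rw [e]
    smul_zero := fun c => by
      change F.map (obMap Λ k (c • LinearMap.id)) (tzero h0) = tzero h0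
      unfold tzero
      rw [map_comp_apply, bToOb_obMap]
    smul_add := fun c x y => by
      change F.map (obMap Λ k (c • LinearMap.id)) (tadd h0 h2 x y) =
        tadd h0 h2 (F.map (obMap Λ k (c • LinearMap.id)) x) (F.map (obMap Λ k (c • LinearMap.id)) y)
      obtain ⟨t, ht₁, ht₂⟩ := exists_pair (Λ := Λ) (k := k) (M := k) (N := k) h0 h2 x y
      rw [← ht₁, ← ht₂, tadd_map, map_comp_apply, map_comp_apply, map_comp_apply, obMap_comp, obMap_comp,
        obMap_comp, tadd_map]
      have e : (c • LinearMap.id : k →ₗ[k] k) ∘ₗ (LinearMap.fst k k k + LinearMap.snd k k k) =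
          (c • LinearMap.id) ∘ₗ LinearMap.fst k k k + (c • LinearMap.id) ∘ₗ LinearMap.snd k k k :=
        LinearMap.comp_add _ _ _
      rw [e]
    add_smul := fun c d x => by
      change F.map (obMap Λ k ((c + d) • LinearMap.id)) x =
        tadd h0 h2 (F.map (obMap Λ k (c • LinearMap.id)) x) (F.map (obMap Λ k (d • LinearMap.id)) x)
      rw [tadd_map, ← add_smul]
    zero_smul := fun x => by
      change F.map (obMap Λ k ((0 : k) • LinearMap.id)) x = tzero h0
      rw [zero_smul]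
      exact map_zero_eq h0 x }

/-- The vector space structure on the tangent space. -/
@[reducible]
noncomputable def tangentStr : TangentStr F :=
  { addCommGroup := tgroup h0 h2
    module := tmodule h0 h2
    smul_eq := fun _ _ => rfl
    add_eq := fun z => tadd_map h0 h2 (LinearMap.fst k k k) (LinearMap.snd k k k) z }

end Str

end K724.Tangent
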