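import Groth.Agent.ArtFun.K724.PowerSeries

/-!
Smooth morphisms between pro-representable functors are power series extensions (helper724).
-/

set_option autoImplicit false
universe u v
open CategoryTheory
open ArtFun ArtFun.Art

namespace K724.PowerSeries2

open K724.Basic K724.Smooth K724.Formal K724.Complete K724.PowerSeries IsLocalRing
open Groth.Agent.CalgB Groth.Agent.Ega41

variable {Λ : Type u} {k : Type u} [CommRing Λ] [Field k] [Algebra Λ k]

/-- A surjective endomorphism of a noetherian ring is injective. -/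
theorem injective_of_surjective {A : Type*} [CommRing A] [IsNoetherianRing A] (f : A →+* A)
    (hf : Function.Surjective f) : Function.Injective f := by
  have hpow : ∀ (n : ℕ) (x : A), (f ^ n) x = f^[n] x := fun n x => by
    rw [RingHom.coe_pow]
  let c : ℕ →o Ideal A :=
    { toFun := fun n => RingHom.ker (f ^ n)
      monotone' := by
        apply monotone_nat_of_le_succ
        intro n x hx
        rw [RingHom.mem_ker] at hx ⊢
        rw [hpow] at hx ⊢
        rw [Function.iterate_succ_apply', hx, map_zero] }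
  obtain ⟨n, hn⟩ := (monotone_stabilizes_iff_noetherian (R := A) (M := A)).2 inferInstance c
  rw [injective_iff_map_eq_zero]
  intro x hx
  obtain ⟨y, rfl⟩ := hf.iterate n x
  have h1 : y ∈ c (n + 1) := by
    change y ∈ RingHom.ker (f ^ (n + 1))
    rw [RingHom.mem_ker, hpow, Function.iterate_succ_apply', hx]
  rw [← hn (n + 1) (Nat.le_succ n)] at h1
  have h2 : y ∈ RingHom.ker (f ^ n) := h1
  rwa [RingHom.mem_ker, hpow] at h2

/-- The key construction, for a coefficient ring `T` over `R` with the properties of a power series ring. -/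
theorem nonempty_algEquiv_aux (R S T : CRing Λ k) [Algebra R.carrier S.carrier]
    [IsScalarTower Λ R.carrier S.carrier] [Algebra R.carrier T.carrier] [IsScalarTower Λ R.carrier T.carrier]
    (hRS : S.res.comp (IsScalarTower.toAlgHom Λ R.carrier S.carrier) = R.res)
    (hv : IsVersal ((Family.self R.carrier R.res).along
        (IsScalarTower.toAlgHom Λ R.carrier S.carrier) hRS))
    (b : Ideal S.carrier) (hb : b = (maximalIdeal R.carrier).map (algebraMap R.carrier S.carrier) ⊔
      maximalIdeal S.carrier ^ 2)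
    (n : ℕ) (x : Fin n → S.carrier) (hx1 : ∀ i, x i ∈ maximalIdeal S.carrier)
    (hx2 : maximalIdeal S.carrier ≤ b ⊔ Ideal.span (Set.range x))
    (hx3 : ∀ r : Fin n → S.carrier, ∑ i, r i * x i ∈ b → ∀ i, r i ∈ maximalIdeal S.carrier)
    (X' : Fin n → T.carrier)
    (hmT : maximalIdeal T.carrier = (maximalIdeal R.carrier).map (algebraMap R.carrier T.carrier) ⊔
      Ideal.span (Set.range X'))
    (θ : T.carrier →ₐ[R.carrier] S.carrier) (hθX : ∀ i, θ (X' i) = x i)
    (hθΛ : S.res.comp (θ.restrictScalars Λ) = T.res) :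
    Nonempty (S.carrier ≃ₐ[R.carrier] T.carrier) := by
  haveI hSc : IsAdicComplete (maximalIdeal S.carrier) S.carrier := S.isAdicComplete
  haveI hTc : IsAdicComplete (maximalIdeal T.carrier) T.carrier := T.isAdicComplete
  set mR := maximalIdeal R.carrier with hmR
  set mS := maximalIdeal S.carrier with hmS
  have hresθ : ∀ t : T.carrier, S.res (θ t) = T.res t := fun t => DFunLike.congr_fun hθΛ t
  have hRSle : mR.map (algebraMap R.carrier S.carrier) ≤ mS :=
    map_le_maximalIdeal R.res R.res_surjective S.res S.res_surjective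
      (IsScalarTower.toAlgHom Λ R.carrier S.carrier) hRS
  have hble : b ≤ mS := by
    rw [hb]
    exact sup_le hRSle (Ideal.pow_le_self two_ne_zero)
  have hθm : (maximalIdeal T.carrier).map θ ≤ mS :=
    map_le_maximalIdeal T.res T.res_surjective S.res S.res_surjective (θ.restrictScalars Λ) hθΛ
  have hmapθ : (mR.map (algebraMap R.carrier T.carrier)).map θ = mR.map (algebraMap R.carrier S.carrier) := by
    change (mR.map (algebraMap R.carrier T.carrier)).map (θ : T.carrier →+* S.carrier) = _
    rw [Ideal.map_map]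
    congr 1
    exact AlgHom.comp_algebraMap θ
  have hθcot : (maximalIdeal T.carrier).map (θ : T.carrier →+* S.carrier) ⊔ mS ^ 2 = mS := by
    refine le_antisymm (sup_le hθm (Ideal.pow_le_self two_ne_zero)) (hx2.trans ?_)
    rw [hb]
    refine sup_le (sup_le (le_sup_of_le_left ?_) le_sup_right) (le_sup_of_le_left ?_)
    · rw [← hmapθ]
      apply Ideal.map_mono
      rw [hmT]
      exact le_sup_left
    · rw [Ideal.span_le]
      rintro _ ⟨i, rfl⟩
      rw [← hθX]
      apply Ideal.mem_map_of_mem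
      rw [hmT]
      exact Ideal.mem_sup_right (Ideal.subset_span ⟨i, rfl⟩)
  have hθsurj : Function.Surjective θ := by
    haveI : IsPrecomplete (maximalIdeal T.carrier) T.carrier := hTc.toIsPrecomplete
    exact surjective_of_cotangent (θ : T.carrier →+* S.carrier)
      (exists_sub_mem T.res T.res_surjective S.res S.res_surjective (θ.restrictScalars Λ) hθΛ) hθcot
  -- the preimage of `b` under `θ`
  have hpre : ∀ t : T.carrier, θ t ∈ b → t ∈ mR.map (algebraMap R.carrier T.carrier) ⊔ maximalIdeal T.carrier ^ 2 := by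
    intro t ht
    have htm : t ∈ maximalIdeal T.carrier := by
      rw [CRing.mem_maximalIdeal_iff, ← hresθ, ← CRing.mem_maximalIdeal_iff]
      exact hble ht
    rw [hmT] at htm
    obtain ⟨u, hu, w, hw, rfl⟩ := Submodule.mem_sup.1 htm
    obtain ⟨a, ha⟩ := (Ideal.mem_span_range_iff_exists_fun).1 hw
    have h1 : θ u ∈ b := by
      rw [hb]
      refine Ideal.mem_sup_left ?_
      rw [← hmapθ]
      exact Ideal.mem_map_of_mem θ hu
    have h2 : θ w ∈ b := by
      rw [map_add] at ht
      exact (Ideal.add_mem_iff_right _ h1).1 ht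
    rw [← ha, map_sum] at h2
    have h3 : ∀ i, θ (a i) ∈ mS := by
      apply hx3 (fun i => θ (a i))
      convert h2 using 2 with i
      rw [map_mul]
      congr 1
      exact (hθX i).symm
    refine Submodule.add_mem_sup hu ?_
    rw [← ha]
    refine Ideal.sum_mem _ fun i _ => ?_
    rw [sq]
    refine Ideal.mul_mem_mul ?_ ?_
    · rw [CRing.mem_maximalIdeal_iff, ← hresθ, ← CRing.mem_maximalIdeal_iff]
      exact h3 i
    · rw [hmT]
      exact Ideal.mem_sup_right (Ideal.subset_span ⟨i, rfl⟩)
  -- the object `S₁ = S / b`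
  let resb : (S.carrier ⧸ b) →ₐ[Λ] k := Ideal.Quotient.liftₐ b S.res (fun a ha =>
    (CRing.mem_maximalIdeal_iff S a).1 (hble ha))
  have hresb : Function.Surjective resb := fun c => by
    obtain ⟨s, hs⟩ := S.res_surjective c
    exact ⟨Ideal.Quotient.mk b s, hs⟩
  have hnil : ∀ s : S.carrier ⧸ b, resb s = 0 → IsNilpotent s := by
    intro s hs
    obtain ⟨s, rfl⟩ := Ideal.Quotient.mk_surjective s
    refine ⟨2, ?_⟩
    rw [← map_pow, Ideal.Quotient.eq_zero_iff_mem, hb]
    exact Ideal.mem_sup_right (Ideal.pow_mem_pow ((CRing.mem_maximalIdeal_iff S s).2 hs) 2)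
  let S₁ : Art Λ k := mkObj (S.carrier ⧸ b) resb hresb hnil
  let φ₁ : HomSet S.carrier S.res S₁ := ⟨Ideal.Quotient.mkₐ Λ b, AlgHom.ext fun _ => rfl⟩
  let μ₁ : T.trunc 1 ⟶ S₁ := ⟨Ideal.Quotient.liftₐ (maximalIdeal T.carrier ^ (1 + 1))
    ((Ideal.Quotient.mkₐ Λ b).comp (θ.restrictScalars Λ)) (fun a ha => by
      change Ideal.Quotient.mk b (θ a) = 0
      rw [Ideal.Quotient.eq_zero_iff_mem, hb]
      refine Ideal.mem_sup_right (?_ : θ a ∈ mS ^ 2)
      have h1 := Ideal.mem_map_of_mem (θ : T.carrier →+* S.carrier) ha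
      rw [Ideal.map_pow] at h1
      exact Ideal.pow_right_mono hθm 2 h1), by
      apply AlgHom.ext
      intro t
      obtain ⟨t, rfl⟩ := Ideal.Quotient.mk_surjective t
      exact hresθ t⟩
  have hμ₁ : Function.Surjective μ₁ := by
    intro s
    obtain ⟨s, rfl⟩ := Ideal.Quotient.mk_surjective s
    obtain ⟨t, rfl⟩ := hθsurj s
    exact ⟨(T.truncHom 1).1 t, rfl⟩
  let ι : R.carrier →ₐ[Λ] T.carrier := IsScalarTower.toAlgHom Λ R.carrier T.carrier
  have hι : T.res.comp ι = R.res := by
    apply AlgHom.ext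
    intro r
    change T.res (algebraMap R.carrier T.carrier r) = R.res r
    rw [← hresθ, AlgHom.commutes]
    exact DFunLike.congr_fun hRS r
  let y : ∀ n : ℕ, HomSet R.carrier R.res (T.trunc n) := fun n => ⟨(T.truncHom n).1.comp ι, by
    rw [← AlgHom.comp_assoc, (T.truncHom n).2, hι]⟩
  -- lifts
  set ξ := (Family.self R.carrier R.res).along (IsScalarTower.toAlgHom Λ R.carrier S.carrier) hRS with hξ
  obtain ⟨ψ₁, hψ₁, hψ₁'⟩ := hv μ₁ hμ₁ φ₁ (y 1) (Subtype.ext (AlgHom.ext fun r => by
    change Ideal.Quotient.mk b (θ (algebraMap R.carrier T.carrier r)) =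
      Ideal.Quotient.mk b (algebraMap R.carrier S.carrier r)
    rw [AlgHom.commutes]))
  have hstep : ∀ (n : ℕ) (φ : HomSet S.carrier S.res (T.trunc (n + 1))), ξ.app _ φ = y (n + 1) →
      ∃ ψ : HomSet S.carrier S.res (T.trunc (n + 1 + 1)), HomSet.map (T.truncMap (n + 1)) ψ = φ ∧
        ξ.app _ ψ = y (n + 1 + 1) := by
    intro n φ hφ
    refine hv (T.truncMap (n + 1)) ?_ φ (y (n + 1 + 1)) ?_
    · intro t
      obtain ⟨s, rfl⟩ := truncHom_surjective T (n + 1) t
      exact ⟨(T.truncHom (n + 1 + 1)).1 s, rfl⟩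
    · rw [hφ]
      exact Subtype.ext (AlgHom.ext fun r => rfl)
  let seq : ∀ n : ℕ, {φ : HomSet S.carrier S.res (T.trunc (n + 1)) // ξ.app _ φ = y (n + 1)} := fun n =>
    Nat.rec ⟨ψ₁, hψ₁'⟩ (fun n φ => ⟨(hstep n φ.1 φ.2).choose, (hstep n φ.1 φ.2).choose_spec.2⟩) n
  have hseq : ∀ n, HomSet.map (T.truncMap (n + 1)) (seq (n + 1)).1 = (seq n).1 := fun n =>
    (hstep n (seq n).1 (seq n).2).choose_spec.1
  let g : ∀ n : ℕ, HomSet S.carrier S.res (T.trunc n) := fun n =>
    match n with
    | 0 => HomSet.map (T.truncMap 0) (seq 0).1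
    | n + 1 => (seq n).1
  have hg : ∀ n, HomSet.map (T.truncMap n) (g (n + 1)) = g n := by
    intro n
    cases n with
    | zero => rfl
    | succ n => exact hseq n
  obtain ⟨ρ, hρres, hρ⟩ := exists_glue T S.res g hg
  -- `R`-linearity
  have hρR : ρ.comp (IsScalarTower.toAlgHom Λ R.carrier S.carrier) = ι := by
    apply algHom_ext_of_trunc T
    intro n
    rw [← AlgHom.comp_assoc, hρ]
    cases n with
    | zero =>
      have h1 := congrArg Subtype.val (seq 0).2
      apply AlgHom.ext
      intro r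
      exact congrArg (T.truncMap 0) (DFunLike.congr_fun h1 r)
    | succ n => exact congrArg Subtype.val (seq n).2
  have hρb : ∀ s : S.carrier, θ (ρ s) - s ∈ b := by
    intro s
    have h1 : μ₁ (ψ₁.1 s) = φ₁.1 s := DFunLike.congr_fun (congrArg Subtype.val hψ₁) s
    have h2 : (T.truncHom 1).1 (ρ s) = ψ₁.1 s := DFunLike.congr_fun (hρ 1) s
    rw [← h2] at h1
    exact (Ideal.Quotient.eq).1 h1
  let ρR : S.carrier →ₐ[R.carrier] T.carrier := { ρ with commutes' := fun r => DFunLike.congr_fun hρR r }
  have hρRapp : ∀ s, ρR s = ρ s := fun s => rfl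
  have hρm : (maximalIdeal S.carrier).map ρR ≤ maximalIdeal T.carrier :=
    map_le_maximalIdeal S.res S.res_surjective T.res T.res_surjective ρ hρres
  have hmapρ : mR.map (algebraMap R.carrier T.carrier) ≤ (maximalIdeal S.carrier).map ρR := by
    have h1 : (mR.map (algebraMap R.carrier S.carrier)).map (ρR : S.carrier →+* T.carrier) =
        mR.map (algebraMap R.carrier T.carrier) := by
      rw [Ideal.map_map]
      congr 1
      exact AlgHom.comp_algebraMap ρR
    rw [← h1]
    exact Ideal.map_mono hRSle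
  have hρcot : (maximalIdeal S.carrier).map (ρR : S.carrier →+* T.carrier) ⊔ maximalIdeal T.carrier ^ 2 =
      maximalIdeal T.carrier := by
    refine le_antisymm (sup_le hρm (Ideal.pow_le_self two_ne_zero)) ?_
    conv_lhs => rw [hmT]
    refine sup_le (le_sup_of_le_left hmapρ) ?_
    rw [Ideal.span_le]
    rintro _ ⟨i, rfl⟩
    have h1 : θ (ρ (x i) - X' i) ∈ b := by
      rw [map_sub]
      have := hρb (x i)
      rwa [hθX i]
    have h2 := hpre _ h1
    have h3 : X' i = ρR (x i) - (ρ (x i) - X' i) := by rw [hρRapp]; ring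
    rw [SetLike.mem_coe, h3]
    refine Ideal.sub_mem _ (Ideal.mem_sup_left (Ideal.mem_map_of_mem _ (hx1 i))) ?_
    exact (sup_le (le_sup_of_le_left hmapρ) le_sup_right :
      mR.map (algebraMap R.carrier T.carrier) ⊔ maximalIdeal T.carrier ^ 2 ≤ _) h2
  have hρsurj : Function.Surjective ρR := by
    haveI : IsPrecomplete (maximalIdeal S.carrier) S.carrier := hSc.toIsPrecomplete
    exact surjective_of_cotangent (ρR : S.carrier →+* T.carrier)
      (exists_sub_mem S.res S.res_surjective T.res T.res_surjective ρ hρres) hρcot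
  have hinj : Function.Injective ρR := by
    have h1 : Function.Surjective ((θ : T.carrier →+* S.carrier).comp (ρR : S.carrier →+* T.carrier)) :=
      hθsurj.comp hρsurj
    have h2 := injective_of_surjective
      ((θ : T.carrier →+* S.carrier).comp (ρR : S.carrier →+* T.carrier)) h1
    exact Function.Injective.of_comp h2
  exact ⟨AlgEquiv.ofBijective ρR ⟨hinj, hρsurj⟩⟩

theorem res_eq_of_powEval (R S : CRing Λ k) [Algebra R.carrier S.carrier] [IsScalarTower Λ R.carrier S.carrier]
    (hRS : S.res.comp (IsScalarTower.toAlgHom Λ R.carrier S.carrier) = R.res) (n : ℕ)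
    (θ : MvPowerSeries (Fin n) R.carrier →ₐ[R.carrier] S.carrier)
    (hθ : ∀ i, θ (MvPowerSeries.X i) ∈ maximalIdeal S.carrier) (t : MvPowerSeries (Fin n) R.carrier) :
    S.res (θ t) = R.res (MvPowerSeries.constantCoeff t) := by
  have h1 : t = MvPowerSeries.C (MvPowerSeries.constantCoeff t) + (t - MvPowerSeries.C
      (MvPowerSeries.constantCoeff t)) := by ring
  have h2 : t - MvPowerSeries.C (MvPowerSeries.constantCoeff t) ∈
      Ideal.span (Set.range (MvPowerSeries.X : Fin n → MvPowerSeries (Fin n) R.carrier)) := by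
    rw [PowComplete.mem_span_X_iff]
    simp
  have h3 : θ (t - MvPowerSeries.C (MvPowerSeries.constantCoeff t)) ∈ maximalIdeal S.carrier := by
    have h4 := Ideal.mem_map_of_mem (θ : MvPowerSeries (Fin n) R.carrier →+* S.carrier) h2
    rw [Ideal.map_span] at h4
    refine (Ideal.span_le.2 ?_) h4
    rintro _ ⟨_, ⟨i, rfl⟩, rfl⟩
    exact hθ i
  have h5 : S.res (θ (t - MvPowerSeries.C (MvPowerSeries.constantCoeff t))) = 0 :=
    (CRing.mem_maximalIdeal_iff S _).1 h3
  conv_lhs => rw [h1]
  rw [map_add, map_add, h5, add_zero]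
  have h7 : θ (MvPowerSeries.C (MvPowerSeries.constantCoeff t)) =
      algebraMap R.carrier S.carrier (MvPowerSeries.constantCoeff t) := θ.commutes _
  rw [h7]
  exact DFunLike.congr_fun hRS _

theorem exists_algEquiv_of_isVersal (R S : CRing Λ k) [Algebra R.carrier S.carrier]
    [IsScalarTower Λ R.carrier S.carrier]
    (hRS : S.res.comp (IsScalarTower.toAlgHom Λ R.carrier S.carrier) = R.res)
    (hv : IsVersal ((Family.self R.carrier R.res).along
        (IsScalarTower.toAlgHom Λ R.carrier S.carrier) hRS)) :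
    ∃ n : ℕ, Nonempty (S.carrier ≃ₐ[R.carrier] MvPowerSeries (Fin n) R.carrier) := by
  haveI hSc : IsAdicComplete (maximalIdeal S.carrier) S.carrier := S.isAdicComplete
  obtain ⟨n, x, hx1, hx2, hx3⟩ := exists_minimal_gens
    ((maximalIdeal R.carrier).map (algebraMap R.carrier S.carrier) ⊔ maximalIdeal S.carrier ^ 2)
  refine ⟨n, ?_⟩
  let θ : MvPowerSeries (Fin n) R.carrier →ₐ[R.carrier] S.carrier :=
    PowEval.powEval (R := R.carrier) (maximalIdeal S.carrier) x hx1
  have hθX : ∀ i, θ (MvPowerSeries.X i) = x i := fun i => PowEval.powEval_X (maximalIdeal S.carrier) x hx1 i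
  letI a1 : Algebra R.carrier (psRing R n).carrier :=
    show Algebra R.carrier (MvPowerSeries (Fin n) R.carrier) from inferInstance
  haveI a2 : IsScalarTower Λ R.carrier (psRing R n).carrier :=
    show IsScalarTower Λ R.carrier (MvPowerSeries (Fin n) R.carrier) from inferInstance
  exact nonempty_algEquiv_aux R S (psRing R n) hRS hv _ rfl n x hx1 hx2 hx3
    (fun i => (MvPowerSeries.X i : MvPowerSeries (Fin n) R.carrier))
    (PowSerMap.maximalIdeal_eq (Λ := R.carrier) (σ := Fin n)) θ hθX
    (AlgHom.ext fun t => res_eq_of_powEval R S hRS n θ (fun i => by rw [hθX]; exact hx1 i) t)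

end K724.PowerSeries2
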