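import Groth.Agent.ArtFun.K724.Formal
import Groth.Prelude.Def_CAlgX
import Mathlib.RingTheory.FiniteType
import Mathlib.RingTheory.Polynomial.Basic
import Mathlib.RingTheory.Ideal.Quotient.Noetherian

/-!
Smoothness of `h_R` and adic formal smoothness (helper724).
-/

set_option autoImplicit false
universe u v
open CategoryTheory
open ArtFun ArtFun.Art

namespace K724.AdicSmooth

open K724.Basic K724.Smooth K724.Formal IsLocalRing

variable {Λ : Type u} {k : Type u} [CommRing Λ] [Field k] [Algebra Λ k]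

theorem isSmoothFunctor_of_smallExt (F : Art Λ k ⥤ Type v)
    (h : ∀ ⦃B A : Art Λ k⦄ (μ : B ⟶ A), IsSmallExt μ → Function.Surjective (F.map μ)) : IsSmoothFunctor F := by
  intro B A μ hμ
  refine surjective_induction (fun A B μ => Function.Surjective (F.map μ)) ?_ ?_ μ hμ
  · intro A B e he
    exact (map_bijective_of_isIso F e).2
  · intro A B C p q hp _ ih x
    obtain ⟨y, hy⟩ := ih x
    obtain ⟨z, hz⟩ := h p hp y
    exact ⟨z, by rw [← map_comp_apply, hz, hy]⟩

theorem isSmoothFunctor_iff_of_isVersal {R : Type u} [CommRing R] [Algebra Λ R] {resR : R →ₐ[Λ] k}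
    {F : Art Λ k ⥤ Type v} (h0 : H0 F) (ξ : Family R resR F) (hξ : IsVersal ξ) :
    IsSmoothFunctor F ↔ IsSmoothFunctor (hR R resR) := by
  constructor
  · intro hF B A μ hμ φ
    obtain ⟨y, hy⟩ := hF μ hμ (ξ.app A φ)
    obtain ⟨ψ, h1, -⟩ := hξ μ hμ φ y hy
    exact ⟨ψ, h1⟩
  · intro hR B A μ hμ x
    obtain ⟨φ, hφ⟩ := surjective_app_of_isVersal h0 ξ hξ A x
    obtain ⟨ψ, hψ⟩ := hR μ hμ φ
    refine ⟨ξ.app B ψ, ?_⟩
    rw [← ξ.natural, ← hφ]
    congr 1

theorem isSmoothFunctor_hR_iff [IsNoetherianRing Λ] [Module.Finite Λ k] (R : CRing Λ k) :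
    IsSmoothFunctor (hR R.carrier R.res) ↔
      CAlgX.IsAdicFormallySmooth Λ R.carrier (maximalIdeal R.carrier) := by
  constructor
  · intro h A' _ _ J hJ ψ ⟨n, hn⟩
    -- a presentation of the truncation
    haveI : Module.Finite Λ (R.trunc n) := moduleFinite (R.trunc n)
    obtain ⟨m, f, hf⟩ := Algebra.FiniteType.iff_quotient_mvPolynomial''.1
      (inferInstance : Algebra.FiniteType Λ (R.trunc n))
    set K : Ideal (MvPolynomial (Fin m) Λ) := RingHom.ker f with hK
    let fbar : (MvPolynomial (Fin m) Λ ⧸ K ^ 2) →ₐ[Λ] R.trunc n := Ideal.Quotient.liftₐ (K ^ 2) f (fun a ha =>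
      (Ideal.pow_le_self two_ne_zero ha : a ∈ K))
    have hfbar : Function.Surjective fbar := fun x => by
      obtain ⟨p, hp⟩ := hf x
      exact ⟨Ideal.Quotient.mk _ p, hp⟩
    have hnil : ∀ s : (MvPolynomial (Fin m) Λ ⧸ K ^ 2), ((R.trunc n).res.comp fbar) s = 0 → IsNilpotent s := by
      intro s hs
      obtain ⟨N, hN⟩ := isNilpotent_of_res_eq_zero (R.trunc n) (fbar s) hs
      obtain ⟨p, rfl⟩ := Ideal.Quotient.mk_surjective s
      refine ⟨N * 2, ?_⟩
      rw [pow_mul, ← map_pow, ← map_pow, Ideal.Quotient.eq_zero_iff_mem]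
      apply Ideal.pow_mem_pow
      rw [hK, RingHom.mem_ker, map_pow]
      exact hN
    haveI : IsNoetherianRing (MvPolynomial (Fin m) Λ ⧸ K ^ 2) := inferInstance
    let B : Art Λ k := mkObj (MvPolynomial (Fin m) Λ ⧸ K ^ 2) ((R.trunc n).res.comp fbar)
      ((R.trunc n).res_surjective.comp hfbar) hnil
    let μ : B ⟶ R.trunc n := ⟨fbar, rfl⟩
    obtain ⟨χ, hχ⟩ := h μ hfbar (R.truncHom n)
    -- the map from the presentation
    let ψbar : R.trunc n →ₐ[Λ] A' ⧸ J := Ideal.Quotient.liftₐ (CRing.mpow R n) ψ (fun a ha =>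
      hn a (Ideal.pow_le_pow_right (Nat.le_succ n) ha))
    choose g hg using Ideal.Quotient.mk_surjective (I := J)
    let θ : MvPolynomial (Fin m) Λ →ₐ[Λ] A' := MvPolynomial.aeval (fun i => g (ψbar (f (MvPolynomial.X i))))
    have hθ : (Ideal.Quotient.mkₐ Λ J).comp θ = ψbar.comp f := by
      apply MvPolynomial.algHom_ext
      intro i
      rw [AlgHom.comp_apply, AlgHom.comp_apply, MvPolynomial.aeval_X]
      exact hg _
    have hθK : K ≤ J.comap θ := by
      intro p hp
      rw [Ideal.mem_comap, ← Ideal.Quotient.eq_zero_iff_mem]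
      have h1 := DFunLike.congr_fun hθ p
      rw [AlgHom.comp_apply, AlgHom.comp_apply] at h1
      have h2 : f p = 0 := hp
      rw [h2, map_zero] at h1
      exact h1
    let θbar : (MvPolynomial (Fin m) Λ ⧸ K ^ 2) →ₐ[Λ] A' := Ideal.Quotient.liftₐ (K ^ 2) θ (fun a ha => by
      have h1 : a ∈ (J ^ 2).comap θ := (Ideal.pow_right_mono hθK 2).trans (Ideal.le_comap_pow _ _) ha
      rw [hJ] at h1
      exact h1)
    have hcomp : (Ideal.Quotient.mkₐ Λ J).comp θbar = ψbar.comp fbar := by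
      apply AlgHom.ext
      intro x
      obtain ⟨p, rfl⟩ := Ideal.Quotient.mk_surjective x
      exact DFunLike.congr_fun hθ p
    refine ⟨θbar.comp χ.1, ?_⟩
    rw [← AlgHom.comp_assoc, hcomp, AlgHom.comp_assoc]
    have h3 : fbar.comp χ.1 = (R.truncHom n).1 := congrArg Subtype.val hχ
    rw [h3]
    rfl
  · intro h
    apply isSmoothFunctor_of_smallExt
    intro B A μ hμ φ
    obtain ⟨hsurj, -, -, hm⟩ := hμ
    set J : Ideal B := RingHom.ker μ.toAlgHom with hJdef
    have hJm : J ≤ maximalIdeal B := IsLocalRing.le_maximalIdeal (RingHom.ker_ne_top _)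
    have hJ : J ^ 2 = ⊥ := by
      rw [eq_bot_iff, ← hm, sq]
      exact Ideal.mul_mono_left hJm
    let e : (B ⧸ J) ≃ₐ[Λ] A := Ideal.quotientKerAlgEquivOfSurjective hsurj
    obtain ⟨n, hn⟩ := exists_pow_le_ker A φ
    obtain ⟨χ, hχ⟩ := h B J hJ (e.symm.toAlgHom.comp φ.1) ⟨n + 1, fun x hx => by
      have h1 : φ.1 x = 0 := hn (by rw [ker_res_eq]; exact hx)
      change e.symm (φ.1 x) = 0
      rw [h1, map_zero]⟩
    have key : μ.toAlgHom.comp χ = φ.1 := by
      apply AlgHom.ext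
      intro x
      have h1 := congrArg e (DFunLike.congr_fun hχ x)
      change e (Ideal.Quotient.mk J (χ x)) = e (e.symm (φ.1 x)) at h1
      rw [e.apply_symm_apply] at h1
      rw [← h1]
      rfl
    refine ⟨⟨χ, ?_⟩, Subtype.ext key⟩
    rw [← μ.res_comp, AlgHom.comp_assoc, key]
    exact φ.2

end K724.AdicSmooth
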