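import Groth.Agent.ArtFun.K724.Complete
import Mathlib.RingTheory.Derivation.Basic
import Mathlib.RingTheory.SimpleModule.Basic
import Mathlib.RingTheory.Ideal.Quotient.Noetherian

/-!
Derivations of augmented local algebras into the residue field (helper724).
-/

set_option autoImplicit false
universe u v
open CategoryTheory
open ArtFun ArtFun.Art

namespace K724.Deriv

open K724.Basic IsLocalRing

variable {Λ : Type u} {k : Type u} [CommRing Λ] [Field k] [Algebra Λ k]

section

variable {S : Type u} [CommRing S] [Algebra Λ S] [IsLocalRing S] [Algebra S k] [IsScalarTower Λ S k]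

theorem mem_maximalIdeal_iff_algebraMap {S : Type u} [CommRing S] [IsLocalRing S] [Algebra S k]
    (hres : Function.Surjective (algebraMap S k)) (s : S) :
    s ∈ maximalIdeal S ↔ algebraMap S k s = 0 := by
  have hmax : (RingHom.ker (algebraMap S k)).IsMaximal :=
    RingHom.ker_isMaximal_of_surjective (algebraMap S k) hres
  rw [← IsLocalRing.eq_maximalIdeal hmax, RingHom.mem_ker]

theorem smul_eq_zero_of_mem {S : Type u} [CommRing S] [IsLocalRing S] [Algebra S k]
    (hres : Function.Surjective (algebraMap S k)) {s : S} (hs : s ∈ maximalIdeal S)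
    (c : k) : s • c = 0 := by
  rw [Algebra.smul_def, (mem_maximalIdeal_iff_algebraMap hres s).1 hs, zero_mul]

theorem derivation_eq_zero_of_mem_sq (hres : Function.Surjective (algebraMap S k)) (D : Derivation Λ S k)
    {s : S} (hs : s ∈ maximalIdeal S ^ 2) : D s = 0 := by
  rw [sq] at hs
  induction hs using Submodule.mul_induction_on' with
  | mem_mul_mem m hm n hn =>
    rw [Derivation.leibniz, smul_eq_zero_of_mem hres hm, smul_eq_zero_of_mem hres hn, add_zero]
  | add x _ y _ hx hy => rw [map_add, hx, hy, add_zero]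

end

/-- Finiteness of the space of derivations. -/
theorem finite_derivation [Module.Finite Λ k] (S : Type u) [CommRing S] [Algebra Λ S] [IsLocalRing S]
    [IsNoetherianRing S] [Algebra S k] [IsScalarTower Λ S k]
    (hres : Function.Surjective (algebraMap S k)) : Module.Finite k (Derivation Λ S k) := by
  classical
  -- `S/m²` is finite over `Λ`
  have hle : maximalIdeal S ^ 2 ≤ maximalIdeal S := Ideal.pow_le_self two_ne_zero
  let π : (S ⧸ maximalIdeal S ^ 2) →ₐ[Λ] k := Ideal.Quotient.liftₐ (maximalIdeal S ^ 2) (IsScalarTower.toAlgHom Λ S k)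
    (fun s hs => (mem_maximalIdeal_iff_algebraMap hres s).1 (hle hs))
  have hπ : Function.Surjective π := fun c => by
    obtain ⟨s, hs⟩ := hres c
    exact ⟨Ideal.Quotient.mk _ s, hs⟩
  have hfin : Module.Finite Λ (S ⧸ maximalIdeal S ^ 2) := by
    haveI : IsNoetherianRing (S ⧸ maximalIdeal S ^ 2) := inferInstance
    refine moduleFinite_of_surjective_nilpotent π hπ (IsNoetherian.noetherian _) ⟨2, ?_⟩
    rw [Ideal.zero_eq_bot, eq_bot_iff, pow_two (RingHom.ker π), Ideal.mul_le]
    intro x hx y hy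
    obtain ⟨a, rfl⟩ := Ideal.Quotient.mk_surjective x
    obtain ⟨b, rfl⟩ := Ideal.Quotient.mk_surjective y
    have ha : a ∈ maximalIdeal S := (mem_maximalIdeal_iff_algebraMap hres a).2 hx
    have hb : b ∈ maximalIdeal S := (mem_maximalIdeal_iff_algebraMap hres b).2 hy
    rw [Ideal.mem_bot, ← map_mul, Ideal.Quotient.eq_zero_iff_mem, sq]
    exact Ideal.mul_mem_mul ha hb
  obtain ⟨t, ht⟩ := hfin.fg_top
  choose g hg using Ideal.Quotient.mk_surjective (I := maximalIdeal S ^ 2)
  let ev : Derivation Λ S k →ₗ[k] (t → k) :=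
    { toFun := fun D i => D (g i.1)
      map_add' := fun _ _ => rfl
      map_smul' := fun _ _ => rfl }
  refine Module.Finite.of_injective ev ?_
  rw [← LinearMap.ker_eq_bot, LinearMap.ker_eq_bot']
  intro D hD
  apply Derivation.ext
  intro s
  rw [Derivation.zero_apply]
  have h1 : (Ideal.Quotient.mk (maximalIdeal S ^ 2) s) ∈ Submodule.span Λ (t : Set (S ⧸ maximalIdeal S ^ 2)) := by
    rw [ht]; trivial
  have key : ∀ x ∈ Submodule.span Λ (t : Set (S ⧸ maximalIdeal S ^ 2)),
      ∀ s : S, Ideal.Quotient.mk (maximalIdeal S ^ 2) s = x → D s = 0 := by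
    intro x hx
    have hwd : ∀ s s' : S, Ideal.Quotient.mk (maximalIdeal S ^ 2) s = Ideal.Quotient.mk (maximalIdeal S ^ 2) s' →
        D s = D s' := by
      intro s s' h
      rw [Ideal.Quotient.eq] at h
      have := derivation_eq_zero_of_mem_sq hres D h
      rwa [map_sub, sub_eq_zero] at this
    induction hx using Submodule.span_induction with
    | mem x hx =>
      intro s hs
      rw [hwd s (g x) (by rw [hs, hg])]
      exact congrFun hD ⟨x, hx⟩
    | zero =>
      intro s hs
      rw [hwd s 0 (by rw [hs, map_zero]), map_zero]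
    | add x y _ _ hx hy =>
      intro s hs
      rw [hwd s (g x + g y) (by rw [hs, map_add, hg, hg]), map_add, hx _ (hg x), hy _ (hg y), add_zero]
    | smul a x _ hx =>
      intro s hs
      rw [hwd s (a • g x) (by
        rw [hs, Algebra.smul_def a (g x), map_mul, hg, Algebra.smul_def]; rfl), Derivation.map_smul, hx _ (hg x), smul_zero]
  exact key _ h1 s rfl

/-- A nonzero linear functional on the maximal ideal killing a smaller ideal containing `m²`. -/
theorem exists_functional {S : Type u} [CommRing S] [IsLocalRing S]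
    [IsNoetherianRing S] [Algebra S k]
    (hres : Function.Surjective (algebraMap S k)) (I : Ideal S) (hI : I < maximalIdeal S)  :
    ∃ ℓ : maximalIdeal S →ₗ[S] k, ℓ ≠ 0 ∧ ∀ x : maximalIdeal S, (x : S) ∈ I → ℓ x = 0 := by
  -- a maximal submodule of `m` containing `I`
  let J : Submodule S (maximalIdeal S) := Submodule.comap (maximalIdeal S).subtype I
  have hJ : J ≠ ⊤ := by
    intro h
    apply hI.not_ge
    intro s hs
    have : (⟨s, hs⟩ : maximalIdeal S) ∈ J := by rw [h]; trivial
    exact this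
  obtain ⟨N, hN, hJN⟩ : ∃ N : Submodule S (maximalIdeal S), IsCoatom N ∧ J ≤ N := by
    rcases eq_top_or_exists_le_coatom J with h | h
    · exact absurd h hJ
    · exact h
  haveI : IsSimpleModule S (maximalIdeal S ⧸ N) := isSimpleModule_iff_isCoatom.2 hN
  obtain ⟨M, hM, ⟨e⟩⟩ := isSimpleModule_iff_quot_maximal.1 this
  have hM' : M = maximalIdeal S := IsLocalRing.eq_maximalIdeal hM
  let q : (S ⧸ M) →ₗ[S] k := Submodule.liftQ M (Algebra.linearMap S k) (by
    rw [hM']
    intro s hs
    exact (mem_maximalIdeal_iff_algebraMap hres s).1 hs)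
  refine ⟨q ∘ₗ e.toLinearMap ∘ₗ N.mkQ, ?_, ?_⟩
  · intro h
    have h1 : q ∘ₗ e.toLinearMap = 0 := by
      apply LinearMap.ext
      intro x
      obtain ⟨y, rfl⟩ := N.mkQ_surjective x
      exact LinearMap.congr_fun h y
    have h2 : q (e (e.symm (Ideal.Quotient.mk M 1))) = 0 := LinearMap.congr_fun h1 _
    rw [e.apply_symm_apply] at h2
    have h3 : algebraMap S k 1 = 0 := h2
    rw [map_one] at h3
    exact one_ne_zero h3
  · intro x hx
    have h1 : x ∈ N := hJN hx
    have h2 : N.mkQ x = 0 := by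
      rw [Submodule.mkQ_apply, Submodule.Quotient.mk_eq_zero]
      exact h1
    rw [LinearMap.comp_apply, LinearMap.comp_apply, h2, map_zero, map_zero]

theorem map_sup_eq_of_derivation_injective {R S : Type u} [CommRing R] [Algebra Λ R] [IsLocalRing R]
    [CommRing S] [Algebra Λ S] [IsLocalRing S]
    [IsNoetherianRing S] [Algebra S k] [IsScalarTower Λ S k]
    (hres : Function.Surjective (algebraMap S k))
    (resR : R →ₐ[Λ] k) (hR : Function.Surjective resR) (f : R →ₐ[Λ] S)
    (hf : (IsScalarTower.toAlgHom Λ S k).comp f = resR)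
    (hinj : ∀ D₁ D₂ : Derivation Λ S k, (∀ r : R, D₁ (f r) = D₂ (f r)) → D₁ = D₂) :
    (maximalIdeal R).map f ⊔ maximalIdeal S ^ 2 = maximalIdeal S := by
  classical
  by_contra hne
  have hle : (maximalIdeal R).map f ⊔ maximalIdeal S ^ 2 ≤ maximalIdeal S :=
    sup_le (K724.Complete.map_le_maximalIdeal resR hR (IsScalarTower.toAlgHom Λ S k) hres f hf)
      (Ideal.pow_le_self two_ne_zero)
  obtain ⟨ℓ, hℓ0, hℓ⟩ := exists_functional hres _ (lt_of_le_of_ne hle hne)
  choose ρ hρ using K724.Complete.exists_sub_mem resR hR (IsScalarTower.toAlgHom Λ S k) hres f hf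
  have hwd : ∀ (s : S) (r : R) (h : s - f r ∈ maximalIdeal S), ℓ ⟨s - f (ρ s), hρ s⟩ = ℓ ⟨s - f r, h⟩ := by
    intro s r h
    rw [← sub_eq_zero, ← map_sub]
    apply hℓ
    change (s - f (ρ s)) - (s - f r) ∈ _
    have h1 : (s - f (ρ s)) - (s - f r) = f (r - ρ s) := by rw [map_sub]; ring
    rw [h1]
    refine Ideal.mem_sup_left (Ideal.mem_map_of_mem _ ?_)
    have h2 : f (r - ρ s) ∈ maximalIdeal S := by
      rw [← h1]; exact Ideal.sub_mem _ (hρ s) h
    rw [mem_maximalIdeal_iff' resR hR, ← hf]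
    rw [mem_maximalIdeal_iff' (IsScalarTower.toAlgHom Λ S k) hres] at h2
    exact h2
  have hsm : ∀ (s : S) (r : R), s - f r ∈ maximalIdeal S → ∀ c : k, s • c = f r • c := by
    intro s r h c
    rw [← sub_eq_zero, ← sub_smul]
    exact smul_eq_zero_of_mem hres h c
  let D₀ : S →ₗ[Λ] k :=
    { toFun := fun s => ℓ ⟨s - f (ρ s), hρ s⟩
      map_add' := fun s s' => by
        have h : (s + s') - f (ρ s + ρ s') ∈ maximalIdeal S := by
          rw [map_add, add_sub_add_comm]; exact Ideal.add_mem _ (hρ s) (hρ s')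
        rw [hwd (s + s') (ρ s + ρ s') h, ← map_add]
        congr 1
        apply Subtype.ext
        change s + s' - f (ρ s + ρ s') = (s - f (ρ s)) + (s' - f (ρ s'))
        rw [map_add, add_sub_add_comm]
      map_smul' := fun a s => by
        have h1 : (a • s) - f (a • ρ s) = algebraMap Λ S a * (s - f (ρ s)) := by
          rw [map_smul, ← smul_sub, Algebra.smul_def]
        have h : (a • s) - f (a • ρ s) ∈ maximalIdeal S := by
          rw [h1]; exact Ideal.mul_mem_left _ _ (hρ s)
        rw [hwd (a • s) (a • ρ s) h, RingHom.id_apply]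
        have h2 : (⟨a • s - f (a • ρ s), h⟩ : maximalIdeal S) = algebraMap Λ S a • ⟨s - f (ρ s), hρ s⟩ :=
          Subtype.ext h1
        rw [h2, map_smul, algebraMap_smul] }
  let D : Derivation Λ S k := Derivation.mk' D₀ (fun s s' => by
    have h1 : (s * s') - f (ρ s * ρ s') = s * (s' - f (ρ s')) + f (ρ s') * (s - f (ρ s)) := by
      rw [map_mul]; ring
    have h : (s * s') - f (ρ s * ρ s') ∈ maximalIdeal S := by
      rw [h1]; exact Ideal.add_mem _ (Ideal.mul_mem_left _ _ (hρ s')) (Ideal.mul_mem_left _ _ (hρ s))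
    change ℓ ⟨s * s' - f (ρ (s * s')), hρ (s * s')⟩ = s • ℓ ⟨s' - f (ρ s'), hρ s'⟩ + s' • ℓ ⟨s - f (ρ s), hρ s⟩
    rw [hwd (s * s') (ρ s * ρ s') h, hsm s' (ρ s') (hρ s')]
    have h2 : (⟨s * s' - f (ρ s * ρ s'), h⟩ : maximalIdeal S) =
        s • ⟨s' - f (ρ s'), hρ s'⟩ + f (ρ s') • ⟨s - f (ρ s), hρ s⟩ := Subtype.ext h1
    rw [h2, map_add, map_smul, map_smul])
  have hD : D = 0 := by
    apply hinj
    intro r
    rw [Derivation.zero_apply]
    have h : f r - f r ∈ maximalIdeal S := by rw [sub_self]; exact Ideal.zero_mem _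
    change ℓ ⟨f r - f (ρ (f r)), hρ (f r)⟩ = 0
    rw [hwd (f r) r h]
    have h2 : (⟨f r - f r, h⟩ : maximalIdeal S) = 0 := Subtype.ext (sub_self _)
    rw [h2, map_zero]
  apply hℓ0
  apply LinearMap.ext
  intro x
  have h1 : D x = 0 := by rw [hD, Derivation.zero_apply]
  have h : (x : S) - f 0 ∈ maximalIdeal S := by rw [map_zero, sub_zero]; exact x.2
  change ℓ ⟨(x : S) - f (ρ x), hρ x⟩ = 0 at h1
  rw [hwd x 0 h] at h1
  have h3 : (x : S) - f 0 = x := by rw [map_zero, sub_zero]
  have h2 : (⟨(x : S) - f 0, h⟩ : maximalIdeal S) = x := Subtype.ext h3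
  rw [h2] at h1
  rw [h1, LinearMap.zero_apply]

end K724.Deriv
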