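import Groth.Agent.ArtFun.K724.Smooth
import Mathlib.LinearAlgebra.Basis.VectorSpace

/-!
Maps to the dual numbers and the square `B ×_A B ≅ B ×_k k[ε]` of a small extension (helper724).
-/

set_option autoImplicit false
universe u v
open CategoryTheory
open ArtFun ArtFun.Art

namespace K724.Dual

open K724.Basic K724.Smooth IsLocalRing

variable {Λ : Type u} {k : Type u} [CommRing Λ] [Field k] [Algebra Λ k]

/-- The map to the dual numbers attached to a derivation-like function. -/
noncomputable def toDual {R : Type u} [CommRing R] [Algebra Λ R] (resR : R →ₐ[Λ] k) (δ : R → k)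
    (hadd : ∀ a b, δ (a + b) = δ a + δ b) (hmul : ∀ a b, δ (a * b) = resR a * δ b + resR b * δ a)
    (hΛ : ∀ r : Λ, δ (algebraMap Λ R r) = 0) : HomSet R resR (dual Λ k) :=
  ⟨{ toFun := fun a => (show DualNumber k from (resR a, δ a))
     map_one' := by
      refine TrivSqZeroExt.ext (map_one resR) ?_
      have := hΛ 1
      rw [map_one] at this
      exact this
     map_mul' := fun a b => by
      refine TrivSqZeroExt.ext (map_mul resR a b) ?_
      change δ (a * b) = resR a • δ b + MulOpposite.op (resR b) • δ a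
      rw [hmul, op_smul_eq_smul, smul_eq_mul, smul_eq_mul]
     map_zero' := by
      refine TrivSqZeroExt.ext (map_zero resR) ?_
      have := hΛ 0
      rw [map_zero] at this
      exact this
     map_add' := fun a b => TrivSqZeroExt.ext (map_add resR a b) (hadd a b)
     commutes' := fun r => by
      refine TrivSqZeroExt.ext ?_ ?_
      · change resR (algebraMap Λ R r) = _
        rw [AlgHom.commutes]
        rfl
      · change δ (algebraMap Λ R r) = _
        rw [hΛ]
        rfl }, AlgHom.ext fun _ => rfl⟩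

theorem toDual_fst {R : Type u} [CommRing R] [Algebra Λ R] (resR : R →ₐ[Λ] k) (δ : R → k)
    (hadd : ∀ a b, δ (a + b) = δ a + δ b) (hmul : ∀ a b, δ (a * b) = resR a * δ b + resR b * δ a)
    (hΛ : ∀ r : Λ, δ (algebraMap Λ R r) = 0) (a : R) :
    ((toDual resR δ hadd hmul hΛ).1 a : DualNumber k).fst = resR a := rfl

theorem toDual_snd {R : Type u} [CommRing R] [Algebra Λ R] (resR : R →ₐ[Λ] k) (δ : R → k)
    (hadd : ∀ a b, δ (a + b) = δ a + δ b) (hmul : ∀ a b, δ (a * b) = resR a * δ b + resR b * δ a)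
    (hΛ : ∀ r : Λ, δ (algebraMap Λ R r) = 0) (a : R) :
    ((toDual resR δ hadd hmul hΛ).1 a : DualNumber k).snd = δ a := rfl

theorem smallExt_mul_eq_zero {A B : Art Λ k} {f : B ⟶ A} (hf : IsSmallExt f) {b y : B} (hb : B.res b = 0)
    (hy : f y = 0) : b * y = 0 := by
  have h1 : b * y ∈ maximalIdeal B * RingHom.ker f.toAlgHom :=
    Ideal.mul_mem_mul ((mem_maximalIdeal_iff B b).2 hb) hy
  rw [hf.2.2.2] at h1
  exact (Ideal.mem_bot).1 h1

theorem exists_res (B : Art Λ k) (c : k) : ∃ b : B, B.res b = c := B.res_surjective c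

/-- The coordinate on the kernel of a small extension. -/
theorem exists_coeff {A B : Art Λ k} (f : B ⟶ A) (hf : IsSmallExt f) :
    ∃ (x : B) (c : B → k), f x = 0 ∧ c x = 1 ∧ (∀ y y', f y = 0 → f y' = 0 → c (y + y') = c y + c y') ∧
      (∀ b y, f y = 0 → c (b * y) = B.res b * c y) ∧ (∀ y, f y = 0 → c y = 0 → y = 0) := by
  classical
  obtain ⟨hsurj, hne, ⟨⟨x, hx⟩⟩, hm⟩ := id hf
  rw [Ideal.submodule_span_eq] at hx
  have hx0 : x ≠ 0 := by
    rintro rfl
    rw [Ideal.span_singleton_zero] at hx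
    exact hne hx
  have hkx : f x = 0 := by
    have : x ∈ RingHom.ker f.toAlgHom := by rw [hx]; exact Ideal.mem_span_singleton_self x
    exact this
  have hex : ∀ y : B, f y = 0 → ∃ b : B, b * x = y := by
    intro y hy
    have : y ∈ RingHom.ker f.toAlgHom := hy
    rw [hx] at this
    exact Ideal.mem_span_singleton'.1 this
  have hwd : ∀ b b' : B, b * x = b' * x → B.res b = B.res b' := by
    intro b b' h
    by_contra hne'
    have h1 : B.res (b - b') ≠ 0 := by rw [map_sub, sub_ne_zero]; exact hne'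
    obtain ⟨u, hu⟩ := (isUnit_of_res_ne_zero B _ h1).exists_left_inv
    apply hx0
    have h2 : (b - b') * x = 0 := by rw [sub_mul, h, sub_self]
    have h3 : u * ((b - b') * x) = 0 := by rw [h2, mul_zero]
    rwa [← mul_assoc, hu, one_mul] at h3
  let c : B → k := fun y => if h : ∃ b : B, b * x = y then B.res h.choose else 0
  have hc : ∀ (b y : B), b * x = y → c y = B.res b := by
    intro b y h
    have h' : ∃ b : B, b * x = y := ⟨b, h⟩
    change (if h : ∃ b : B, b * x = y then B.res h.choose else 0) = _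
    rw [dif_pos h']
    exact hwd _ _ (h'.choose_spec.trans h.symm)
  refine ⟨x, c, hkx, ?_, ?_, ?_, ?_⟩
  · rw [hc 1 x (one_mul x), map_one]
  · intro y y' hy hy'
    obtain ⟨b, hb⟩ := hex y hy
    obtain ⟨b', hb'⟩ := hex y' hy'
    rw [hc b y hb, hc b' y' hb', hc (b + b') (y + y') (by rw [add_mul, hb, hb']), map_add]
  · intro a y hy
    obtain ⟨b, hb⟩ := hex y hy
    rw [hc b y hb, hc (a * b) (a * y) (by rw [mul_assoc, hb]), map_mul]
  · intro y hy hcy
    obtain ⟨b, hb⟩ := hex y hy
    rw [hc b y hb] at hcy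
    rw [← hb]
    exact smallExt_mul_eq_zero hf hcy hkx

/-- For a small extension `f : B → A` and `D = B ×_A B`, also `D = B ×_k k[ε]`. -/
theorem exists_isFibreProd_dual {A B D : Art Λ k} {f : B ⟶ A} (hf : IsSmallExt f) {d₁ d₂ : D ⟶ B}
    (hD : IsFibreProd d₁ d₂ f f) :
    ∃ r : D ⟶ dual Λ k, IsFibreProd d₁ r (toBase B) (toBase (dual Λ k)) := by
  obtain ⟨x, c, hx, hcx, hadd, hmul, hinj⟩ := exists_coeff f hf
  have hk : ∀ d : D, f (d₂ d - d₁ d) = 0 := by
    intro d
    rw [map_sub, ← hD.w_apply, sub_self]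
  have hc0 : c 0 = 0 := by
    have := hmul 0 x hx
    rwa [zero_mul, map_zero, zero_mul] at this
  let φ := toDual (Λ := Λ) D.res (fun d => c (d₂ d - d₁ d)) (fun a b => by
      rw [map_add, map_add, add_sub_add_comm]
      exact hadd _ _ (hk a) (hk b)) (fun a b => by
      have e : d₂ (a * b) - d₁ (a * b) = d₂ a * (d₂ b - d₁ b) + d₁ b * (d₂ a - d₁ a) := by
        rw [map_mul, map_mul]; ring
      rw [e, hadd, hmul _ _ (hk b), hmul _ _ (hk a), res_app, res_app]
      · rw [map_mul, hk, mul_zero]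
      · rw [map_mul, hk, mul_zero]) (fun r => by
      change c (d₂ (algebraMap Λ D r) - d₁ (algebraMap Λ D r)) = 0
      rw [AlgHom.commutes, AlgHom.commutes, sub_self, hc0])
  let r : D ⟶ dual Λ k := ⟨φ.1, φ.2⟩
  have hr1 : ∀ d : D, (r d : DualNumber k).fst = D.res d := fun d => rfl
  have hr2 : ∀ d : D, (r d : DualNumber k).snd = c (d₂ d - d₁ d) := fun d => rfl
  refine ⟨r, ?_, ?_, ?_⟩
  · rw [eq_toBase (d₁ ≫ toBase _), eq_toBase (r ≫ toBase _)]
  · intro b₁ b₂ h₁ h₂
    refine hD.inj _ _ h₁ ?_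
    have h3 : c (d₂ b₁ - d₁ b₁) = c (d₂ b₂ - d₁ b₂) := congrArg TrivSqZeroExt.snd h₂
    have hadd' : c (d₂ b₁ - d₂ b₂) = 0 := by
      have e : d₂ b₁ - d₂ b₂ = (d₂ b₁ - d₁ b₁) + (-1) * (d₂ b₂ - d₁ b₂) := by rw [h₁]; ring
      rw [e, hadd _ _ (hk b₁) (by rw [map_mul, hk, mul_zero]), hmul _ _ (hk b₂), h3, map_neg, map_one]
      ring
    have h4 : d₂ b₁ - d₂ b₂ = 0 := by
      apply hinj _ _ hadd'
      rw [map_sub, ← hD.w_apply, ← hD.w_apply, h₁, sub_self]
    exact sub_eq_zero.1 h4
  · intro b e h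
    obtain ⟨s, hs⟩ := exists_res B (TrivSqZeroExt.snd (e : DualNumber k))
    obtain ⟨d, hd1, hd2⟩ := hD.surj b (b + s * x) (by rw [map_add, map_mul, hx, mul_zero, add_zero])
    refine ⟨d, hd1, TrivSqZeroExt.ext ?_ ?_⟩
    · rw [hr1, ← res_app d₁, hd1]
      exact h
    · rw [hr2, hd1, hd2, add_sub_cancel_left, hmul _ _ hx, hcx, mul_one, hs]

/-- A small extension `p : E → E'` with `m_E² = 0` and a section `k → E` presents `E` as `E' ×_k k[ε]`. -/
theorem exists_isFibreProd_dual_of_sq_zero {E E' : Art Λ k} (p : E ⟶ E') (hp : IsSmallExt p)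
    (σ : base Λ k ⟶ E) (hE : maximalIdeal E ^ 2 = ⊥) :
    ∃ r : E ⟶ dual Λ k, IsFibreProd p r (toBase E') (toBase (dual Λ k)) := by
  obtain ⟨x, c, hx, hcx, hadd, hmul, hinj⟩ := exists_coeff p hp
  have hσ : ∀ a : k, E.res (σ a) = a := fun a => res_app σ a
  letI : Algebra k E := (show k →+* E from σ.toAlgHom.toRingHom).toAlgebra
  have hsm : ∀ (a : k) (e : E), a • e = σ a * e := fun a e => rfl
  have hx0 : x ≠ 0 := by
    rintro rfl
    have := hmul 0 0 (map_zero _)
    rw [mul_zero, hcx, map_zero, zero_mul] at this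
    exact one_ne_zero this
  -- a linear functional with value one at x
  obtain ⟨L, hL⟩ := LinearMap.exists_leftInverse_of_injective (LinearMap.toSpanSingleton k E x)
    (LinearMap.ker_toSpanSingleton k hx0)
  have hLx : L x = 1 := by
    have := LinearMap.congr_fun hL (1 : k)
    rw [LinearMap.comp_apply, LinearMap.toSpanSingleton_apply, one_smul] at this
    exact this
  have hmm : ∀ a b : E, E.res a = 0 → E.res b = 0 → a * b = 0 := by
    intro a b ha hb
    have : a * b ∈ maximalIdeal E ^ 2 := by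
      rw [sq]
      exact Ideal.mul_mem_mul ((mem_maximalIdeal_iff E a).2 ha) ((mem_maximalIdeal_iff E b).2 hb)
    rw [hE] at this
    exact (Ideal.mem_bot).1 this
  have hres0 : ∀ e : E, E.res (e - σ (E.res e)) = 0 := by
    intro e
    rw [map_sub]
    exact sub_eq_zero.2 (hσ _).symm
  let φ := toDual (Λ := Λ) E.res (fun e => L (e - σ (E.res e))) (fun a b => by
      rw [← map_add]
      congr 1
      have : σ (E.res (a + b)) = σ (E.res a) + σ (E.res b) := by
        rw [map_add]; exact map_add σ.toAlgHom _ _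
      rw [this]; ring) (fun a b => by
      have h1 : σ (E.res (a * b)) = σ (E.res a) * σ (E.res b) := by
        rw [map_mul]; exact map_mul σ.toAlgHom _ _
      have e : a * b - σ (E.res (a * b)) = E.res a • (b - σ (E.res b)) + E.res b • (a - σ (E.res a)) := by
        have h2 := hmm _ _ (hres0 a) (hres0 b)
        rw [h1, hsm, hsm]
        linear_combination h2
      rw [e, map_add, map_smul, map_smul, smul_eq_mul, smul_eq_mul]) (fun r => by
      change L (algebraMap Λ E r - σ (E.res (algebraMap Λ E r))) = 0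
      have : σ (E.res (algebraMap Λ E r)) = algebraMap Λ E r := by
        rw [AlgHom.commutes]; exact σ.toAlgHom.commutes r
      rw [this, sub_self, map_zero])
  let r : E ⟶ dual Λ k := ⟨φ.1, φ.2⟩
  have hr1 : ∀ d : E, (r d : DualNumber k).fst = E.res d := fun d => rfl
  have hr2 : ∀ d : E, (r d : DualNumber k).snd = L (d - σ (E.res d)) := fun d => rfl
  have hxres : E.res x = 0 := by rw [← res_app p, hx, map_zero]
  refine ⟨r, ?_, ?_, ?_⟩
  · rw [eq_toBase (p ≫ toBase _), eq_toBase (r ≫ toBase _)]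
  · intro b₁ b₂ h₁ h₂
    have h3 : L (b₁ - σ (E.res b₁)) = L (b₂ - σ (E.res b₂)) := congrArg TrivSqZeroExt.snd h₂
    have h4 : E.res b₁ = E.res b₂ := congrArg TrivSqZeroExt.fst h₂
    have h5 : L (b₁ - b₂) = 0 := by
      rw [h4, ← sub_eq_zero, ← map_sub, sub_sub_sub_cancel_right] at h3
      exact h3
    have h6 : p (b₁ - b₂) = 0 := by rw [map_sub, h₁, sub_self]
    -- b₁ - b₂ = c(b₁ - b₂) x
    have h7 : b₁ - b₂ = c (b₁ - b₂) • x := by
      rw [hsm, ← sub_eq_zero]
      apply hinj
      · rw [map_sub, map_mul, hx, mul_zero, sub_zero, h6]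
      · have e : b₁ - b₂ - σ (c (b₁ - b₂)) * x = (b₁ - b₂) + (-σ (c (b₁ - b₂))) * x := by ring
        have h8 : E.res (-σ (c (b₁ - b₂))) = - c (b₁ - b₂) := by rw [map_neg]; congr 1; exact hσ _
        rw [e, hadd _ _ h6 (by rw [map_mul, hx, mul_zero]), hmul _ _ hx, hcx, h8, mul_one, add_neg_cancel]
    rw [h7, map_smul, hLx, smul_eq_mul, mul_one] at h5
    rw [h5, zero_smul] at h7
    exact sub_eq_zero.1 h7
  · intro a' a'' h
    obtain ⟨e, he⟩ := hp.1 a'
    have h1 : E.res e = TrivSqZeroExt.fst (a'' : DualNumber k) := by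
      rw [← res_app p, he]; exact h
    refine ⟨e + (TrivSqZeroExt.snd (a'' : DualNumber k) - L (e - σ (E.res e))) • x, ?_, ?_⟩
    · rw [map_add, hsm, map_mul, hx, mul_zero, add_zero, he]
    · have h2 : E.res (e + (TrivSqZeroExt.snd (a'' : DualNumber k) - L (e - σ (E.res e))) • x) = E.res e := by
        rw [map_add, hsm, map_mul, hxres, mul_zero, add_zero]
      refine TrivSqZeroExt.ext ?_ ?_
      · rw [hr1, h2, h1]
      · rw [hr2, h2]
        have e2 : e + (TrivSqZeroExt.snd (a'' : DualNumber k) - L (e - σ (E.res e))) • x - σ (E.res e) =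
          (e - σ (E.res e)) + (TrivSqZeroExt.snd (a'' : DualNumber k) - L (e - σ (E.res e))) • x := by ring
        rw [e2, map_add, map_smul, hLx, smul_eq_mul, mul_one, add_sub_cancel]

end K724.Dual
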