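import Groth.Agent.ArtFun.K724.Basic
import Mathlib.Dynamics.Newton
import Mathlib.FieldTheory.Separable

/-!
Roots of separable polynomials in objects of `Art Λ k` (helper724).
-/

set_option autoImplicit false
universe u v
open CategoryTheory
open ArtFun ArtFun.Art Polynomial

namespace K724.Hensel

open K724.Basic

variable {Λ : Type u} {k : Type u} [CommRing Λ] [Field k] [Algebra Λ k]

theorem res_eq_zero_of_isNilpotent (A : Art Λ k) {a : A} (h : IsNilpotent a) : A.res a = 0 :=
  (h.map A.res).eq_zero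

/-- Hensel's lemma for objects of `Art Λ k`. -/
theorem existsUnique_root (A : Art Λ k) (P : Λ[X]) (α : k) (h : aeval α P = 0)
    (h' : aeval α (derivative P) ≠ 0) : ∃! a : A, A.res a = α ∧ aeval a P = 0 := by
  obtain ⟨a₀, ha₀⟩ := A.res_surjective α
  have h1 : IsNilpotent (aeval a₀ P) := by
    apply isNilpotent_of_res_eq_zero
    rw [← aeval_algHom_apply, ha₀, h]
  have h2 : IsUnit (aeval a₀ (derivative P)) := by
    apply isUnit_of_res_ne_zero
    rw [← aeval_algHom_apply, ha₀]
    exact h'
  obtain ⟨r, ⟨hr1, hr2⟩, hr3⟩ := existsUnique_nilpotent_sub_and_aeval_eq_zero h1 h2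
  refine ⟨r, ⟨?_, hr2⟩, fun b hb => hr3 b ⟨?_, hb.2⟩⟩
  · have := res_eq_zero_of_isNilpotent A hr1
    rw [map_sub, sub_eq_zero] at this
    rw [← this, ha₀]
  · apply isNilpotent_of_res_eq_zero
    rw [map_sub, ha₀, hb.1, sub_self]

theorem exists_poly_of_isSeparable (α : k) (h : IsSeparable (↥(algebraMap Λ k).range) α) :
    ∃ P : Λ[X], aeval α P = 0 ∧ aeval α (derivative P) ≠ 0 := by
  set f := minpoly (↥(algebraMap Λ k).range) α with hf
  obtain ⟨P, hP⟩ := Polynomial.map_surjective (algebraMap Λ k).rangeRestrict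
    (algebraMap Λ k).rangeRestrict_surjective f
  have key : ∀ Q : Λ[X], aeval α Q = aeval α (Q.map (algebraMap Λ k).rangeRestrict) := by
    intro Q
    rw [aeval_def, aeval_def, eval₂_map]
    rfl
  refine ⟨P, ?_, ?_⟩
  · rw [key, hP]
    exact minpoly.aeval _ _
  · rw [key, ← derivative_map, hP]
    obtain ⟨a, b, hab⟩ := (h : f.Separable)
    intro h0
    have h1 := congrArg (aeval α) hab
    rw [map_add, map_mul, map_mul, h0, mul_zero, add_zero, minpoly.aeval, mul_zero, map_one] at h1
    exact zero_ne_one h1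

end K724.Hensel
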