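import Groth.Agent.ArtFun.K724.Dual
import Groth.Agent.ArtFun.K724.Deriv

/-!
Consequences of the existence of a hull: (S2) and finiteness of the tangent space (helper724).
-/

set_option autoImplicit false
universe u v
open CategoryTheory
open ArtFun ArtFun.Art

namespace K724.HullConds

open K724.Basic K724.Smooth K724.Dual IsLocalRing

variable {Λ : Type u} {k : Type u} [CommRing Λ] [Field k] [Algebra Λ k]

/-- A versal family injective on tangent spaces forces (S2). -/
theorem heps_of_isVersal {R : Type u} [CommRing R] [Algebra Λ R] {resR : R →ₐ[Λ] k}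
    {F : Art Λ k ⥤ Type v} (h0 : H0 F) (ξ : Family R resR F) (hξ : IsVersal ξ)
    (hinj : Function.Injective (ξ.app (dual Λ k))) : Heps F := by
  intro B A' p' p'' h
  refine ⟨?_, s1_of_isVersal h0 ξ hξ p' p'' _ _ h (dual Λ k).res_surjective⟩
  rw [cmp_injective_iff]
  intro z₁ z₂ e₁ e₂
  obtain ⟨φ₁, hφ₁⟩ := surjective_app_of_isVersal h0 ξ hξ B z₁
  obtain ⟨φ₂, hφ₂, hφ₂'⟩ := hξ p' (IsFibreProd.surjective_fst h (dual Λ k).res_surjective)
    (HomSet.map p' φ₁) z₂ (by rw [ξ.natural, hφ₁, e₁])
  have e : HomSet.map p'' φ₂ = HomSet.map p'' φ₁ := by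
    apply hinj
    rw [ξ.natural, ξ.natural, hφ₁, hφ₂', e₂]
  have : φ₂ = φ₁ := IsFibreProd.homSet_ext h hφ₂ e
  rw [← hφ₁, ← hφ₂', this]

/-- The pair of two derivations, as a map to `k[ε₁, ε₂]`. -/
noncomputable def toDual2 {R : Type u} [CommRing R] [Algebra Λ R] (resR : R →ₐ[Λ] k) (δ : R → k × k)
    (hadd : ∀ a b, δ (a + b) = δ a + δ b) (hmul : ∀ a b, δ (a * b) = resR a • δ b + resR b • δ a)
    (hΛ : ∀ r : Λ, δ (algebraMap Λ R r) = 0) : HomSet R resR (dual2 Λ k) :=
  ⟨{ toFun := fun a => (show TrivSqZeroExt k (k × k) from (resR a, δ a))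
     map_one' := by
      refine TrivSqZeroExt.ext (map_one resR) ?_
      have := hΛ 1
      rw [map_one] at this
      exact this
     map_mul' := fun a b => by
      refine TrivSqZeroExt.ext (map_mul resR a b) ?_
      change δ (a * b) = resR a • δ b + MulOpposite.op (resR b) • δ a
      rw [hmul, op_smul_eq_smul]
     map_zero' := by
      refine TrivSqZeroExt.ext (map_zero resR) ?_
      have := hΛ 0
      rw [map_zero] at this
      exact this
     map_add' := fun a b => TrivSqZeroExt.ext (map_add resR a b) (hadd a b)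
     commutes' := fun r => by
      refine TrivSqZeroExt.ext ?_ ?_
      · change resR (algebraMap Λ R r) = _
        rw [AlgHom.commutes]
        rfl
      · change δ (algebraMap Λ R r) = _
        rw [hΛ]
        rfl }, AlgHom.ext fun _ => rfl⟩

section Der

variable {R : Type u} [CommRing R] [Algebra Λ R] [Algebra R k] [IsScalarTower Λ R k]

/-- The element of `h_R(k[ε])` attached to a derivation. -/
noncomputable def ofDer (D : Derivation Λ R k) : HomSet R (IsScalarTower.toAlgHom Λ R k) (dual Λ k) :=
  toDual (IsScalarTower.toAlgHom Λ R k) D (fun a b => map_add D a b) (fun a b => by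
    rw [Derivation.leibniz, Algebra.smul_def, Algebra.smul_def]; rfl) (fun r => D.map_algebraMap r)

theorem ofDer_surjective : Function.Surjective (ofDer (Λ := Λ) (k := k) (R := R)) := by
  intro φ
  have h1 : ∀ a, TrivSqZeroExt.fst (φ.1 a : DualNumber k) = algebraMap R k a := fun a => DFunLike.congr_fun φ.2 a
  let D₀ : R →ₗ[Λ] k :=
    { toFun := fun a => TrivSqZeroExt.snd (φ.1 a : DualNumber k)
      map_add' := fun a b => by
        have := congrArg TrivSqZeroExt.snd (map_add φ.1 a b : (φ.1 (a + b) : DualNumber k) = φ.1 a + φ.1 b)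
        exact this
      map_smul' := fun r a => by
        have := congrArg TrivSqZeroExt.snd (map_smul φ.1 r a : (φ.1 (r • a) : DualNumber k) = r • φ.1 a)
        exact this }
  refine ⟨Derivation.mk' D₀ (fun a b => ?_), Subtype.ext (AlgHom.ext fun a => TrivSqZeroExt.ext (h1 a).symm rfl)⟩
  have := congrArg TrivSqZeroExt.snd (map_mul φ.1 a b : (φ.1 (a * b) : DualNumber k) = φ.1 a * φ.1 b)
  change TrivSqZeroExt.snd (φ.1 (a * b) : DualNumber k) = a • TrivSqZeroExt.snd (φ.1 b : DualNumber k) +
    b • TrivSqZeroExt.snd (φ.1 a : DualNumber k)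
  have key : ∀ x y : DualNumber k, TrivSqZeroExt.snd (x * y) = TrivSqZeroExt.fst x * TrivSqZeroExt.snd y +
      TrivSqZeroExt.fst y * TrivSqZeroExt.snd x := fun x y => by
    rw [TrivSqZeroExt.snd_mul, op_smul_eq_smul, smul_eq_mul, smul_eq_mul]
  refine this.trans ((key _ _).trans ?_)
  rw [Algebra.smul_def, Algebra.smul_def]
  exact congrArg₂ (· + ·) (congrArg (· * _) (h1 a)) (congrArg (· * _) (h1 b))

/-- The linear map from derivations to the tangent space attached to a family. -/
noncomputable def derToTangent {F : Art Λ k ⥤ Type v} [TangentStr F]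
    (ξ : Family R (IsScalarTower.toAlgHom Λ R k) F) : Derivation Λ R k →ₗ[k] TangentSpace F where
  toFun D := ξ.app (dual Λ k) (ofDer D)
  map_add' D₁ D₂ := by
    let z : HomSet R (IsScalarTower.toAlgHom Λ R k) (dual2 Λ k) :=
      toDual2 (IsScalarTower.toAlgHom Λ R k) (fun a => (D₁ a, D₂ a))
        (fun a b => Prod.ext (map_add D₁ a b) (map_add D₂ a b)) (fun a b => Prod.ext (by
          change D₁ (a * b) = algebraMap R k a • D₁ b + algebraMap R k b • D₁ a
          rw [Derivation.leibniz, algebraMap_smul, algebraMap_smul]) (by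
          change D₂ (a * b) = algebraMap R k a • D₂ b + algebraMap R k b • D₂ a
          rw [Derivation.leibniz, algebraMap_smul, algebraMap_smul]))
        (fun r => Prod.ext (D₁.map_algebraMap r) (D₂.map_algebraMap r))
    have h1 : HomSet.map pr₁ z = ofDer D₁ := Subtype.ext (AlgHom.ext fun _ => rfl)
    have h2 : HomSet.map pr₂ z = ofDer D₂ := Subtype.ext (AlgHom.ext fun _ => rfl)
    have h3 : HomSet.map plus z = ofDer (D₁ + D₂) := Subtype.ext (AlgHom.ext fun _ => rfl)
    have := TangentStr.add_eq (ξ.app (dual2 Λ k) z)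
    rw [← ξ.natural, ← ξ.natural, ← ξ.natural, h1, h2, h3] at this
    exact this.symm
  map_smul' c D := by
    have h1 : HomSet.map (scale c) (ofDer D) = ofDer (c • D) := Subtype.ext (AlgHom.ext fun _ => rfl)
    have := TangentStr.smul_eq (F := F) c (ξ.app (dual Λ k) (ofDer D))
    rw [← ξ.natural, h1] at this
    exact this.symm

end Der

theorem hfin_of_surjective [Module.Finite Λ k] (R : CRing Λ k) {F : Art Λ k ⥤ Type v} [TangentStr F]
    (ξ : Family R.carrier R.res F) (hs : Function.Surjective (ξ.app (dual Λ k))) : Hfin F := by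
  letI : Algebra R.carrier k := R.res.toRingHom.toAlgebra
  haveI : IsScalarTower Λ R.carrier k := IsScalarTower.of_algebraMap_eq fun r => (R.res.commutes r).symm
  have hR : IsScalarTower.toAlgHom Λ R.carrier k = R.res := AlgHom.ext fun _ => rfl
  have hfin : Module.Finite k (Derivation Λ R.carrier k) := K724.Deriv.finite_derivation R.carrier R.res_surjective
  let ξ' : Family R.carrier (IsScalarTower.toAlgHom Λ R.carrier k) F := ξ
  refine Module.Finite.of_surjective (derToTangent ξ') ?_
  intro y
  obtain ⟨φ, hφ⟩ := hs y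
  obtain ⟨D, hD⟩ := ofDer_surjective (Λ := Λ) (k := k) (R := R.carrier) φ
  refine ⟨D, ?_⟩
  change ξ'.app (dual Λ k) (ofDer D) = y
  rw [hD]
  exact hφ

end K724.HullConds
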