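import Groth.Agent.ArtFun.K724.Dual

/-!
The criterion for versality via tangent spaces and lifts along small extensions, and the injectivity statement for
smooth maps bijective on tangent spaces (helper724).
-/

set_option autoImplicit false
universe u v
open CategoryTheory
open ArtFun ArtFun.Art

namespace K724.VersalCrit

open K724.Basic K724.Smooth K724.Dual IsLocalRing

variable {Λ : Type u} {k : Type u} [CommRing Λ] [Field k] [Algebra Λ k]

theorem isVersal_of_tangent_surjective_of_lifts [IsNoetherianRing Λ] [Module.Finite Λ k]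
    {F : Art Λ k ⥤ Type v} (h1 : S1 F) (h2 : Heps F)
    {R : Type u} [CommRing R] [Algebra Λ R] {resR : R →ₐ[Λ] k} (ξ : Family R resR F)
    (ht : Function.Surjective (ξ.app (dual Λ k)))
    (hl : ∀ ⦃B A : Art Λ k⦄ (μ : B ⟶ A), IsSmallExt μ →
      ∀ (φ : HomSet R resR A) (y : F.obj B), F.map μ y = ξ.app A φ →
        ∃ ψ : HomSet R resR B, HomSet.map μ ψ = φ) : IsVersal ξ := by
  apply isVersal_of_smallExt
  intro B A μ hμ φ y hy
  obtain ⟨ψ, hψ⟩ := hl μ hμ φ y hy
  obtain ⟨D, d₁, d₂, hD⟩ := exists_isFibreProd μ μ hμ.1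
  obtain ⟨w, hw₁, hw₂⟩ := (cmp_surjective_iff F hD).1 (h1 _ _ _ _ hD hμ.1) (ξ.app B ψ) y (by
    rw [← ξ.natural, hψ, hy])
  obtain ⟨r, hr⟩ := exists_isFibreProd_dual hμ hD
  obtain ⟨δ, hδ⟩ := ht (F.map r w)
  have e : HomSet.map (toBase B) ψ = HomSet.map (toBase (dual Λ k)) δ :=
    Subtype.ext (ψ.2.trans δ.2.symm)
  let χ := IsFibreProd.lift hr ψ δ e
  have hχ₁ : HomSet.map d₁ χ = ψ := IsFibreProd.lift_fst hr ψ δ e
  have hχ₂ : HomSet.map r χ = δ := IsFibreProd.lift_snd hr ψ δ e
  have hw : ξ.app D χ = w := by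
    apply (cmp_injective_iff F hr).1 (h2 _ _ hr).1
    · rw [← ξ.natural, hχ₁, hw₁]
    · rw [← ξ.natural, hχ₂, hδ]
  refine ⟨HomSet.map d₂ χ, ?_, ?_⟩
  · rw [← hψ, ← hχ₁]
    exact congrArg (fun g : D ⟶ A => HomSet.map g χ) hD.w.symm
  · rw [ξ.natural, hw, hw₂]

/-- A smooth morphism between functors satisfying (RS), bijective on tangent spaces, is injective on objects. -/
theorem injective_app_of_isSmooth [IsNoetherianRing Λ] [Module.Finite Λ k]
    {F G : Art Λ k ⥤ Type v} (hF0 : H0 F)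
    (hF : ∀ ⦃B A A' A'' : Art Λ k⦄ (p' : B ⟶ A') (p'' : B ⟶ A'') (f' : A' ⟶ A) (f'' : A'' ⟶ A)
        (h : IsFibreProd p' p'' f' f''), Function.Surjective f'' → Function.Bijective (cmp F h))
    (hG : ∀ ⦃B A A' A'' : Art Λ k⦄ (p' : B ⟶ A') (p'' : B ⟶ A'') (f' : A' ⟶ A) (f'' : A'' ⟶ A)
        (h : IsFibreProd p' p'' f' f''), Function.Surjective f'' → Function.Bijective (cmp G h))
    (φ : F ⟶ G) (hd : Function.Injective (φ.app (dual Λ k))) (A : Art Λ k) : Function.Injective (φ.app A) := by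
  haveI := hF0.2
  refine surjective_induction (fun C B _ => Function.Injective (φ.app C) → Function.Injective (φ.app B)) ?_ ?_
    (toBase A) A.res_surjective (fun x y _ => Subsingleton.elim _ _)
  · intro C B e he hC x y hxy
    apply (map_bijective_of_isIso F e).1
    apply hC
    rw [NatTrans.naturality_apply, NatTrans.naturality_apply, hxy]
  · intro C B B' p q hp _ ih hC x₁ x₂ hx
    have hB := ih hC
    -- the images in `F(B)` agree
    have hp' : F.map p x₁ = F.map p x₂ := by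
      apply hB
      rw [NatTrans.naturality_apply, NatTrans.naturality_apply, hx]
    obtain ⟨D, d₁, d₂, hD⟩ := exists_isFibreProd p p hp.1
    obtain ⟨w, hw₁, hw₂⟩ := (cmp_surjective_iff F hD).1 (hF _ _ _ _ hD hp.1).2 x₁ x₂ hp'
    obtain ⟨r, hr⟩ := exists_isFibreProd_dual hp hD
    -- the diagonal
    obtain ⟨Δ, hΔ₁, hΔ₂⟩ := IsFibreProd.exists_lift hD (𝟙 B') (𝟙 B') rfl
    have hφ : φ.app D w = φ.app D (F.map Δ x₁) := by
      apply (cmp_injective_iff G hD).1 (hG _ _ _ _ hD hp.1).1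
      · rw [← NatTrans.naturality_apply, ← NatTrans.naturality_apply, hw₁, map_comp_apply, hΔ₁, map_id_apply]
      · rw [← NatTrans.naturality_apply, ← NatTrans.naturality_apply, hw₂, map_comp_apply, hΔ₂, map_id_apply, hx]
    have hr' : F.map r w = F.map r (F.map Δ x₁) := by
      apply hd
      rw [NatTrans.naturality_apply, NatTrans.naturality_apply, hφ]
    have hw : w = F.map Δ x₁ := by
      apply (cmp_injective_iff F hr).1 (hF _ _ _ _ hr (dual Λ k).res_surjective).1
      · rw [hw₁, map_comp_apply, hΔ₁, map_id_apply]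
      · exact hr'
    rw [← hw₂, hw, map_comp_apply, hΔ₂, map_id_apply]

end K724.VersalCrit
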