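import Groth.Agent.Deform.K680.Start
import Groth.Agent.ArtFun.K724.VersalCrit
import Groth.Agent.ArtFun.K724.Hensel

/-!
Existence of versal families over quotients of a smooth coefficient ring, for arbitrary finite `Λ → k` (helper724).
-/

set_option autoImplicit false
universe u v
open CategoryTheory
open ArtFun ArtFun.Art

namespace K724.HullCore

open IsLocalRing K680.Opn K680.Tow K680.Start

variable {Λ : Type u} {k : Type u} [CommRing Λ] [Field k] [Algebra Λ k]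

lemma aux {P : CRing Λ k} {F : Art Λ k ⥤ Type v} {J J' : OI P} (h : J = J') (x : F.obj J.art)
    (x' : F.obj J'.art) (hx : h ▸ x = x') {A : Art Λ k} (φ : HomSet P.carrier P.res A)
    (h₁ : ∀ a ∈ J.J, φ.1 a = 0) (h₂ : ∀ a ∈ J'.J, φ.1 a = 0) :
    F.map (J.desc φ h₁) x = F.map (J'.desc φ h₂) x' := by
  subst h
  subst hx
  rfl

/-- A versal family over a quotient of a smooth coefficient ring `P` with a surjection `P → k ⊕ kⁿ`, for a functor whose
tangent space is spanned by `n` elements; if all maps `P → k[ε]` factor over `k ⊕ kⁿ` and the elements are linearly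
independent, it is miniversal. -/
theorem exists_versal [IsNoetherianRing Λ] [Module.Finite Λ k]
    (F : Art Λ k ⥤ Type v) [TangentStr F] (h0 : H0 F) (h1 : S1 F) (h2 : Heps F) {n : ℕ}
    (b : Module.Basis (Fin n) k (TangentSpace F)) (P : CRing Λ k) (hP : IsSmoothFunctor (hR P.carrier P.res))
    (π₀ : HomSet P.carrier P.res (E Λ k n)) (hπs : Function.Surjective π₀.1) :
    ∃ (R : CRing Λ k) (ξ : Family R.carrier R.res F), IsVersal ξ ∧
      ((∀ φ : HomSet P.carrier P.res (dual Λ k), ∃ ℓ, φ = HomSet.map (toDual ℓ) π₀) → IsMiniversal ξ) := by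
  classical
  obtain ⟨η, hη⟩ := exists_elt h0 h2 n b
  let J₀ : OI P := OI.ker π₀
  have hJ₀ : ∀ a ∈ J₀.J, π₀.1 a = 0 := fun a ha => ha
  let d : J₀.art ⟶ E Λ k n := J₀.desc π₀ hJ₀
  have hd : Function.Bijective d := by
    constructor
    · intro x y hxy
      obtain ⟨a, rfl⟩ := J₀.hom_surjective x
      obtain ⟨c, rfl⟩ := J₀.hom_surjective y
      have h4 : π₀.1 a = π₀.1 c := hxy
      rw [OI.hom_eq_iff]
      change π₀.1 (a - c) = 0
      rw [map_sub, h4, sub_self]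
    · intro y
      obtain ⟨a, rfl⟩ := hπs y
      exact ⟨J₀.hom.1 a, rfl⟩
  have : IsIso d := K724.Basic.isIso_of_bijective d hd
  obtain ⟨T, hT0, hT0', hT⟩ := exists_tower F J₀ (F.map (inv d) η)
  have hkill : ∀ ℓ : (Fin n → k) →ₗ[k] k, ∀ a ∈ J₀.J, (HomSet.map (toDual ℓ) π₀).1 a = 0 := by
    intro ℓ a ha
    change (toDual ℓ).toAlgHom (π₀.1 a) = 0
    rw [hJ₀ a ha, map_zero]
  have hkill' : ∀ ℓ : (Fin n → k) →ₗ[k] k, ∀ a ∈ (T.J 0).J, (HomSet.map (toDual ℓ) π₀).1 a = 0 := by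
    intro ℓ a ha
    rw [hT0] at ha
    exact hkill ℓ a ha
  have htan : ∀ (φ : HomSet T.ring.carrier T.ring.res (dual Λ k)) (ℓ : (Fin n → k) →ₗ[k] k),
      T.rs φ = HomSet.map (toDual ℓ) π₀ →
      TangentSpace.mk (T.family.app (dual Λ k) φ) = ∑ i, ℓ (Pi.single i 1) • b i := by
    intro φ ℓ hφ
    have hk0 : ∀ a ∈ (T.J 0).J, (T.rs φ).1 a = 0 := by rw [hφ]; exact hkill' ℓ
    have hk1 : ∀ a ∈ J₀.J, (T.rs φ).1 a = 0 := by rw [hφ]; exact hkill ℓ
    rw [T.family_app φ 0 hk0, aux hT0 _ _ hT0' (T.rs φ) hk0 hk1, map_map]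
    have e1 : (inv d ≫ J₀.desc (T.rs φ) hk1) = toDual ℓ := by
      rw [IsIso.inv_comp_eq]
      apply OI.hom_ext
      rw [OI.map_desc_hom, OI.homSet_map_comp, OI.map_desc_hom]
      exact hφ
    rw [e1, hη]
  let ℓb : (Fin n → k) → ((Fin n → k) →ₗ[k] k) := fun c => (Pi.basisFun k (Fin n)).constr k c
  have hℓ : ∀ c i, ℓb c (Pi.single i 1) = c i := fun c i => by
    have h4 := (Pi.basisFun k (Fin n)).constr_basis k c i
    rwa [Pi.basisFun_apply] at h4
  have hsurj : Function.Surjective (T.family.app (dual Λ k)) := by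
    intro y
    obtain ⟨φ, hφ⟩ := T.exists_rs_eq (HomSet.map (toDual (ℓb fun i => b.repr (TangentSpace.mk y) i)) π₀) 0 (hkill' _)
    refine ⟨φ, ?_⟩
    have h4 := htan φ _ hφ
    simp only [hℓ] at h4
    exact h4.trans (b.sum_repr (TangentSpace.mk y))
  have hvers : IsVersal T.family := K724.VersalCrit.isVersal_of_tangent_surjective_of_lifts h1 h2 T.family hsurj
    fun B A μ hμ φ y hy => K680.TowLift.exists_lift hP ((K724.Smooth.s1_iff_hbar F).1 h1) T hT μ hμ φ y hy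
  refine ⟨T.ring, T.family, hvers, fun hfac => ⟨hvers, ?_, hsurj⟩⟩
  intro φ ψ h
  obtain ⟨ℓ₁, h₁⟩ := hfac (T.rs φ)
  obtain ⟨ℓ₂, h₂⟩ := hfac (T.rs ψ)
  have h4 : ∑ i, ℓ₁ (Pi.single i 1) • b i = ∑ i, ℓ₂ (Pi.single i 1) • b i := by
    rw [← htan φ ℓ₁ h₁, ← htan ψ ℓ₂ h₂, h]
  have h5 : ∀ i, ℓ₁ (Pi.single i 1) = ℓ₂ (Pi.single i 1) := by
    intro i
    have h6 := congrArg (fun x => b.repr x i) h4
    simpa only [map_sum, map_smul, Module.Basis.repr_self, Finsupp.coe_finsetSum, Finset.sum_apply,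
      Finsupp.smul_single, Finsupp.single_apply, smul_eq_mul, mul_one, Finset.sum_ite_eq', Finset.mem_univ,
      if_true] using h6
  have h6 : ℓ₁ = ℓ₂ := by
    apply (Pi.basisFun k (Fin n)).ext
    intro i
    rw [Pi.basisFun_apply]
    exact h5 i
  apply T.rs_injective
  rw [h₁, h₂, h6]

/-- Surjectivity onto `k ⊕ kⁿ`. -/
lemma surjective_of_mem {P : CRing Λ k} {n : ℕ} (π₀ : HomSet P.carrier P.res (E Λ k n)) (t : Fin n → P.carrier)
    (h : ∀ i, π₀.1 (t i) = TrivSqZeroExt.inr (Pi.single i 1))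
    (hinl : ∀ c : k, ∃ p : P.carrier, π₀.1 p = TrivSqZeroExt.inl c) : Function.Surjective π₀.1 := by
  classical
  intro a
  obtain ⟨l, hl⟩ := hinl (TrivSqZeroExt.fst a)
  choose m hm using fun i => hinl (TrivSqZeroExt.snd a i)
  refine ⟨l + ∑ i, m i * t i, ?_⟩
  rw [map_add, hl, map_sum]
  have e1 : ∀ i, π₀.1 (m i * t i) =
      (TrivSqZeroExt.inr (Pi.single i (TrivSqZeroExt.snd a i)) : TrivSqZeroExt k (Fin n → k)) := by
    intro i
    rw [map_mul, hm, h]
    refine Eq.trans (TrivSqZeroExt.inl_mul_inr _ _) ?_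
    rw [← Pi.single_smul, smul_eq_mul, mul_one]
  rw [Finset.sum_congr rfl fun i _ => e1 i]
  refine TrivSqZeroExt.ext ?_ ?_
  · refine Eq.trans (TrivSqZeroExt.fst_add _ _) ?_
    have e2 : TrivSqZeroExt.fst (∑ i, (TrivSqZeroExt.inr (Pi.single i (TrivSqZeroExt.snd a i)) :
        TrivSqZeroExt k (Fin n → k))) = 0 := by
      rw [TrivSqZeroExt.fst_sum]
      exact Finset.sum_eq_zero fun i _ => rfl
    refine Eq.trans (congrArg₂ (· + ·) rfl e2) (add_zero _)
  · refine Eq.trans (TrivSqZeroExt.snd_add _ _) ?_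
    have e2 : TrivSqZeroExt.snd (∑ i, (TrivSqZeroExt.inr (Pi.single i (TrivSqZeroExt.snd a i)) :
        TrivSqZeroExt k (Fin n → k))) = TrivSqZeroExt.snd a := by
      rw [TrivSqZeroExt.snd_sum]
      refine Eq.trans ?_ (Finset.univ_sum_single (TrivSqZeroExt.snd a))
      exact Finset.sum_congr rfl fun i _ => rfl
    refine Eq.trans (congrArg₂ (· + ·) rfl e2) (zero_add _)

end K724.HullCore
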