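import Groth.Agent.ArtFun.K724.Smooth
import Groth.Prelude.Def_ArtFun3

/-!
The least ideal along which an element lifts (helper724).
-/

set_option autoImplicit false
universe u v
open CategoryTheory
open ArtFun ArtFun.Art

namespace K724.LeastIdeal

open K724.Basic K724.Smooth IsLocalRing

variable {Λ : Type u} {k : Type u} [CommRing Λ] [Field k] [Algebra Λ k]

/-- Complements inside an ideal killed by the maximal ideal of an object. -/
theorem exists_compl (B : Art Λ k) (I L : Ideal B) (hI : maximalIdeal B * I = ⊥) (hL : L ≤ I) :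
    ∃ W : Ideal B, W ≤ I ∧ W ⊓ L = ⊥ ∧ W ⊔ L = I := by
  obtain ⟨W, ⟨hW1, hW2⟩, hmax⟩ := (wellFounded_gt : WellFounded ((· > ·) : Ideal B → Ideal B → Prop)).has_min
    {W : Ideal B | W ≤ I ∧ W ⊓ L = ⊥} ⟨⊥, bot_le, bot_inf_eq L⟩
  refine ⟨W, hW1, hW2, le_antisymm (sup_le hW1 hL) ?_⟩
  intro x hx
  by_contra hxW
  have hmx : ∀ m ∈ maximalIdeal B, m * x = 0 := by
    intro m hm
    have : m * x ∈ maximalIdeal B * I := Ideal.mul_mem_mul hm hx
    rw [hI] at this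
    exact (Ideal.mem_bot).1 this
  refine hmax (W ⊔ Ideal.span {x}) ⟨sup_le hW1 ((Ideal.span_singleton_le_iff_mem _).2 hx), ?_⟩ ?_
  · rw [eq_bot_iff]
    rintro y ⟨hy1, hy2⟩
    obtain ⟨w, hw, z, hz, rfl⟩ := Submodule.mem_sup.1 hy1
    obtain ⟨b, rfl⟩ := Ideal.mem_span_singleton'.1 hz
    by_cases hb : b ∈ maximalIdeal B
    · rw [hmx b hb, add_zero] at hy2 ⊢
      rw [← hW2]
      exact ⟨hw, hy2⟩
    · exfalso
      apply hxW
      have hbu : IsUnit b := by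
        by_contra h
        exact hb ((IsLocalRing.mem_maximalIdeal b).2 h)
      obtain ⟨c, hc⟩ := hbu.exists_left_inv
      have h1 : x = -(c * w) + c * (w + b * x) := by
        rw [mul_add, ← mul_assoc, hc, one_mul]; ring
      rw [h1]
      exact Submodule.add_mem_sup (W.neg_mem (W.mul_mem_left _ hw)) (L.mul_mem_left _ hy2)
  · refine lt_of_le_of_ne le_sup_left ?_
    intro h
    apply hxW
    have : x ∈ W := by
      rw [h]
      exact Submodule.mem_sup_right (Ideal.mem_span_singleton_self x)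
    exact Submodule.mem_sup_left this

theorem ker_quotMk (B : Art Λ k) (J : Ideal B) (hJ : J ≤ maximalIdeal B) :
    RingHom.ker (quotMk B J hJ).toAlgHom = J := by
  ext a
  rw [RingHom.mem_ker]
  exact Ideal.Quotient.eq_zero_iff_mem

/-- The transition map between quotients. -/
noncomputable def quotLE (B : Art Λ k) {J J' : Ideal B} (hJ : J ≤ maximalIdeal B) (hJ' : J' ≤ maximalIdeal B)
    (h : J ≤ J') : quot B J hJ ⟶ quot B J' hJ' :=
  quotFactor hJ (quotMk B J' hJ') (by rw [ker_quotMk]; exact h)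

theorem quotMk_quotLE (B : Art Λ k) {J J' : Ideal B} (hJ : J ≤ maximalIdeal B) (hJ' : J' ≤ maximalIdeal B)
    (h : J ≤ J') : quotMk B J hJ ≫ quotLE B hJ hJ' h = quotMk B J' hJ' := quotMk_quotFactor _ _ _

theorem quotMk_epi (B : Art Λ k) (J : Ideal B) (hJ : J ≤ maximalIdeal B) {C : Art Λ k} {f g : quot B J hJ ⟶ C}
    (h : quotMk B J hJ ≫ f = quotMk B J hJ ≫ g) : f = g := by
  apply hom_ext
  apply AlgHom.ext
  intro x
  obtain ⟨b, rfl⟩ := quotMk_surjective B J hJ x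
  exact DFunLike.congr_fun (congrArg Hom.toAlgHom h) b

theorem quotLE_quotFactor {A B : Art Λ k} (p : B ⟶ A) {J J' : Ideal B} (hJ : J ≤ maximalIdeal B)
    (hJ' : J' ≤ maximalIdeal B) (h : J ≤ J') (hp : J' ≤ RingHom.ker p.toAlgHom) :
    quotLE B hJ hJ' h ≫ quotFactor hJ' p hp = quotFactor hJ p (h.trans hp) := by
  apply quotMk_epi
  rw [← Category.assoc, quotMk_quotLE, quotMk_quotFactor, quotMk_quotFactor]

/-- `B/(J ⊓ K)` is the fibre product of `B/J` and `B/K` over `A` when `J ⊔ K` is the kernel of `B → A`. -/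
theorem isFibreProd_quot {A B : Art Λ k} (p : B ⟶ A) {J K L : Ideal B} (hJ : J ≤ maximalIdeal B)
    (hK : K ≤ maximalIdeal B) (hL : L ≤ maximalIdeal B) (hJp : J ≤ RingHom.ker p.toAlgHom)
    (hKp : K ≤ RingHom.ker p.toAlgHom) (hLJ : L ≤ J) (hLK : L ≤ K) (hinf : J ⊓ K ≤ L)
    (hsup : RingHom.ker p.toAlgHom ≤ J ⊔ K) :
    IsFibreProd (quotLE B hL hJ hLJ) (quotLE B hL hK hLK) (quotFactor hJ p hJp) (quotFactor hK p hKp) := by
  refine ⟨?_, ?_, ?_⟩
  · rw [quotLE_quotFactor, quotLE_quotFactor]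
  · intro b₁ b₂ h₁ h₂
    obtain ⟨x, rfl⟩ := quotMk_surjective B L hL b₁
    obtain ⟨y, rfl⟩ := quotMk_surjective B L hL b₂
    change (Ideal.Quotient.mk J x) = Ideal.Quotient.mk J y at h₁
    change (Ideal.Quotient.mk K x) = Ideal.Quotient.mk K y at h₂
    rw [Ideal.Quotient.eq] at h₁ h₂
    change (Ideal.Quotient.mk L x) = Ideal.Quotient.mk L y
    rw [Ideal.Quotient.eq]
    exact hinf ⟨h₁, h₂⟩
  · intro a' a'' h
    obtain ⟨x, rfl⟩ := quotMk_surjective B J hJ a'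
    obtain ⟨y, rfl⟩ := quotMk_surjective B K hK a''
    have h1 : p x = p y := h
    have h2 : x - y ∈ RingHom.ker p.toAlgHom := by
      rw [RingHom.mem_ker, map_sub, sub_eq_zero]; exact h1
    obtain ⟨j, hj, κ, hκ, e⟩ := Submodule.mem_sup.1 (hsup h2)
    refine ⟨quotMk B L hL (x - j), ?_, ?_⟩
    · change (Ideal.Quotient.mk J (x - j)) = Ideal.Quotient.mk J x
      rw [Ideal.Quotient.eq, sub_sub_cancel_left]
      exact J.neg_mem hj
    · change (Ideal.Quotient.mk K (x - j)) = Ideal.Quotient.mk K y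
      rw [Ideal.Quotient.eq]
      have : x - j - y = κ := by
        rw [sub_right_comm, ← e]; ring
      rw [this]
      exact hκ

/-- The lifting property of an ideal. -/
def Lifts (F : Art Λ k ⥤ Type v) {A B : Art Λ k} (p : B ⟶ A) (x : F.obj A) (J : Ideal B) : Prop :=
  ∃ (hJ : J ≤ RingHom.ker p.toAlgHom) (hJ' : J ≤ maximalIdeal B), ∃ y : F.obj (quot B J hJ'),
    F.map (quotFactor hJ' p hJ) y = x

theorem lifts_ker (F : Art Λ k ⥤ Type v) {A B : Art Λ k} (p : B ⟶ A) (hp : Function.Surjective p) (x : F.obj A) :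
    Lifts F p x (RingHom.ker p.toAlgHom) := by
  have hm : RingHom.ker p.toAlgHom ≤ maximalIdeal B := IsLocalRing.le_maximalIdeal (RingHom.ker_ne_top _)
  refine ⟨le_rfl, hm, ?_⟩
  have hb : Function.Bijective (quotFactor hm p le_rfl) := by
    refine ⟨fun a b h => ?_, fun a => ?_⟩
    · obtain ⟨x, rfl⟩ := quotMk_surjective B _ hm a
      obtain ⟨y, rfl⟩ := quotMk_surjective B _ hm b
      have h1 : p x = p y := h
      change (Ideal.Quotient.mk _ x) = Ideal.Quotient.mk _ y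
      rw [Ideal.Quotient.eq, RingHom.mem_ker, map_sub, sub_eq_zero]
      exact h1
    · obtain ⟨b, hb⟩ := hp a
      exact ⟨quotMk B _ hm b, hb⟩
  haveI := isIso_of_bijective _ hb
  exact (map_bijective_of_isIso F (quotFactor hm p le_rfl)).2 x

theorem Lifts.mono {F : Art Λ k ⥤ Type v} {A B : Art Λ k} {p : B ⟶ A} {x : F.obj A} {J J' : Ideal B}
    (h : Lifts F p x J) (hJJ' : J ≤ J') (hJ' : J' ≤ RingHom.ker p.toAlgHom) : Lifts F p x J' := by
  obtain ⟨h1, h2, y, hy⟩ := h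
  have hm : J' ≤ maximalIdeal B := hJ'.trans (IsLocalRing.le_maximalIdeal (RingHom.ker_ne_top _))
  refine ⟨hJ', hm, F.map (quotLE B h2 hm hJJ') y, ?_⟩
  rw [map_comp_apply, quotLE_quotFactor, hy]

theorem Lifts.inf {F : Art Λ k ⥤ Type v} (hF : S1 F) {A B : Art Λ k} {p : B ⟶ A} (hp : IsSemismallExt p)
    {x : F.obj A} {J K : Ideal B} (hJ : Lifts F p x J) (hK : Lifts F p x K) : Lifts F p x (J ⊓ K) := by
  obtain ⟨hpsurj, hpm⟩ := hp
  have hJK : J ⊔ K ≤ RingHom.ker p.toAlgHom := sup_le hJ.1 hK.1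
  obtain ⟨W, hW1, hW2, hW3⟩ := exists_compl B _ (J ⊔ K) hpm hJK
  have hJ' : Lifts F p x (J ⊔ W) := hJ.mono le_sup_left (sup_le hJ.1 hW1)
  obtain ⟨a1, a2, y, hy⟩ := hJ'
  obtain ⟨b1, b2, z, hz⟩ := hK
  have hL : J ⊓ K ≤ maximalIdeal B := inf_le_right.trans b2
  have hinf : (J ⊔ W) ⊓ K ≤ J ⊓ K := by
    refine le_inf ?_ inf_le_right
    calc (J ⊔ W) ⊓ K ≤ (J ⊔ W) ⊓ (J ⊔ K) := inf_le_inf_left _ le_sup_right
      _ = J ⊔ (W ⊓ (J ⊔ K)) := by
        rw [sup_inf_assoc_of_le W (le_sup_left : J ≤ J ⊔ K)]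
      _ = J := by rw [hW2, sup_bot_eq]
  have hsup : RingHom.ker p.toAlgHom ≤ (J ⊔ W) ⊔ K := by
    rw [← hW3]
    exact sup_le (le_sup_right.trans le_sup_left) (sup_le (le_sup_left.trans le_sup_left) le_sup_right)
  have hfp := isFibreProd_quot p a2 b2 hL a1 b1 (inf_le_left.trans le_sup_left) inf_le_right hinf hsup
  obtain ⟨w, hw1, hw2⟩ := (cmp_surjective_iff F hfp).1 (hF _ _ _ _ hfp (fun a => by
    obtain ⟨b, hb⟩ := hpsurj a
    exact ⟨quotMk B _ b2 b, hb⟩)) y z (by rw [hy, hz])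
  refine ⟨inf_le_left.trans hJ.1, hL, w, ?_⟩
  rw [← hz, ← hw2, map_comp_apply, quotLE_quotFactor]

/-- The least ideal along which `x` lifts. -/
theorem exists_least {F : Art Λ k ⥤ Type v} (hF : S1 F) {A B : Art Λ k} (p : B ⟶ A) (hp : IsSemismallExt p)
    (x : F.obj A) : ∃ J₀ : Ideal B, Lifts F p x J₀ ∧ ∀ J, Lifts F p x J → J₀ ≤ J := by
  obtain ⟨J₀, hJ₀, hmin⟩ := (wellFounded_lt : WellFounded ((· < ·) : Ideal B → Ideal B → Prop)).has_min
    {J : Ideal B | Lifts F p x J} ⟨_, lifts_ker F p hp.1 x⟩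
  refine ⟨J₀, hJ₀, fun J hJ => ?_⟩
  have h1 : Lifts F p x (J₀ ⊓ J) := Lifts.inf hF hp hJ₀ hJ
  by_contra hne
  exact hmin _ h1 (lt_of_le_of_ne inf_le_left (fun h => hne (inf_eq_left.1 h)))

end K724.LeastIdeal
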