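import Groth.Agent.ArtFun.K724.Formal
import Groth.Agent.ArtFun.K724.Complete
import Groth.Agent.CalgB.PowSerMap

/-!
Smooth morphisms between pro-representable functors and power series rings (helper724).
-/

set_option autoImplicit false
universe u v
open CategoryTheory
open ArtFun ArtFun.Art

namespace K724.PowerSeries

open K724.Basic K724.Smooth K724.Formal K724.Complete IsLocalRing
open Groth.Agent.CalgB Groth.Agent.Ega41

variable {Λ : Type u} {k : Type u} [CommRing Λ] [Field k] [Algebra Λ k]

theorem isAdicComplete_of_isNilpotent {A : Type*} [CommRing A] (I : Ideal A) (h : IsNilpotent I) :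
    IsAdicComplete I A := by
  obtain ⟨N, hN⟩ := h
  have hmem : ∀ x : A, x ∈ (I ^ N • ⊤ : Ideal A) → x = 0 := by
    intro x hx
    rw [hN, Ideal.zero_eq_bot, Submodule.bot_smul] at hx
    exact (Submodule.mem_bot _).1 hx
  refine { haus' := ?_, prec' := ?_ }
  · intro x hx
    exact hmem x (SModEq.zero.1 (hx N))
  · intro f hf
    refine ⟨f N, fun n => ?_⟩
    rcases le_total n N with h | h
    · exact hf h
    · have h1 := hf h
      rw [SModEq.sub_mem] at h1
      have h2 := hmem _ h1
      rw [sub_eq_zero.1 h2]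

theorem isAdicComplete_art (B : Art Λ k) : IsAdicComplete (maximalIdeal B) B :=
  isAdicComplete_of_isNilpotent _ ((isArtinianRing_iff_isNilpotent_maximalIdeal B).1 inferInstance)

/-- Minimal systems of elements generating the maximal ideal modulo a given ideal. -/
theorem exists_minimal_gens {S : Type*} [CommRing S] [IsLocalRing S] [IsNoetherianRing S] (b : Ideal S) :
    ∃ (n : ℕ) (x : Fin n → S), (∀ i, x i ∈ maximalIdeal S) ∧ maximalIdeal S ≤ b ⊔ Ideal.span (Set.range x) ∧
      ∀ r : Fin n → S, ∑ i, r i * x i ∈ b → ∀ i, r i ∈ maximalIdeal S := by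
  classical
  have hex : ∃ n, ∃ x : Fin n → S, (∀ i, x i ∈ maximalIdeal S) ∧ maximalIdeal S ≤ b ⊔ Ideal.span (Set.range x) := by
    obtain ⟨s, hs⟩ := (IsNoetherian.noetherian (maximalIdeal S) : (maximalIdeal S).FG)
    refine ⟨s.card, fun i => (s.equivFin.symm i : S), fun i => ?_, ?_⟩
    · rw [← hs]
      exact Submodule.subset_span (s.equivFin.symm i).2
    · refine le_sup_of_le_right ?_
      rw [← hs]
      apply Submodule.span_mono
      intro y hy
      exact ⟨s.equivFin ⟨y, hy⟩, by simp⟩
  obtain ⟨n, ⟨x, hx1, hx2⟩, hmin⟩ : ∃ n, (∃ x : Fin n → S, (∀ i, x i ∈ maximalIdeal S) ∧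
      maximalIdeal S ≤ b ⊔ Ideal.span (Set.range x)) ∧ ∀ m < n, ¬ ∃ x : Fin m → S, (∀ i, x i ∈ maximalIdeal S) ∧
      maximalIdeal S ≤ b ⊔ Ideal.span (Set.range x) :=
    ⟨Nat.find hex, Nat.find_spec hex, fun m hm => Nat.find_min hex hm⟩
  refine ⟨n, x, hx1, hx2, fun r hr j => ?_⟩
  by_contra hj
  cases n with
  | zero => exact j.elim0
  | succ m =>
    refine hmin m (Nat.lt_succ_self m) ⟨fun i => x (j.succAbove i), fun i => hx1 _, hx2.trans ?_⟩
    refine sup_le le_sup_left ?_
    rw [Ideal.span_le]
    rintro _ ⟨i, rfl⟩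
    rcases eq_or_ne i j with rfl | hij
    · -- x i is a combination of the others modulo b
      have hu : IsUnit (r i) := by
        by_contra h
        exact hj ((mem_maximalIdeal (r i)).2 h)
      obtain ⟨c, hc⟩ := hu.exists_left_inv
      rw [Fin.sum_univ_succAbove _ i] at hr
      have h1 : x i = c * (r i * x i + ∑ l, r (i.succAbove l) * x (i.succAbove l)) -
          ∑ l, (c * r (i.succAbove l)) * x (i.succAbove l) := by
        rw [mul_add, ← mul_assoc, hc, one_mul, Finset.mul_sum]
        simp only [mul_assoc]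
        ring
      rw [h1]
      refine Ideal.sub_mem _ (Ideal.mem_sup_left (b.mul_mem_left _ hr)) (Ideal.mem_sup_right ?_)
      refine Ideal.sum_mem _ fun l _ => Ideal.mul_mem_left _ _ (Ideal.subset_span ⟨l, rfl⟩)
    · obtain ⟨l, rfl⟩ := Fin.exists_succAbove_eq hij
      exact Ideal.mem_sup_right (Ideal.subset_span ⟨l, rfl⟩)

section PS

variable (R : CRing Λ k) (n : ℕ)

/-- The constant coefficient as a `Λ`-algebra map. -/
noncomputable def constHom : MvPowerSeries (Fin n) R.carrier →ₐ[Λ] R.carrier :=
  { (MvPowerSeries.constantCoeff : MvPowerSeries (Fin n) R.carrier →+* R.carrier) with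
    commutes' := fun r => by
      change MvPowerSeries.constantCoeff (algebraMap Λ (MvPowerSeries (Fin n) R.carrier) r) = _
      rw [MvPowerSeries.algebraMap_apply, MvPowerSeries.constantCoeff_C] }

theorem constHom_surjective : Function.Surjective (constHom R n) := fun r => ⟨MvPowerSeries.C r, by
  change MvPowerSeries.constantCoeff (MvPowerSeries.C r) = r
  rw [MvPowerSeries.constantCoeff_C]⟩

/-- The power series ring over a coefficient ring as a coefficient ring. -/
noncomputable def psRing : CRing Λ k :=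
  haveI : IsAdicComplete (maximalIdeal R.carrier) R.carrier := R.isAdicComplete
  { carrier := MvPowerSeries (Fin n) R.carrier
    res := R.res.comp (constHom R n)
    res_surjective := R.res_surjective.comp (constHom_surjective R n)
    isAdicComplete := PowSer.isAdicComplete_mvPowerSeries n }

end PS

variable (R S : CRing Λ k) [Algebra R.carrier S.carrier] [IsScalarTower Λ R.carrier S.carrier]

theorem isVersal_of_algEquiv
    (hRS : S.res.comp (IsScalarTower.toAlgHom Λ R.carrier S.carrier) = R.res) (n : ℕ)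
    (e : S.carrier ≃ₐ[R.carrier] MvPowerSeries (Fin n) R.carrier) :
    IsVersal ((Family.self R.carrier R.res).along
        (IsScalarTower.toAlgHom Λ R.carrier S.carrier) hRS) := by
  intro B A μ hμ φ y hy
  have hy' : ∀ r, μ (y.1 r) = φ.1 (algebraMap R.carrier S.carrier r) := fun r =>
    DFunLike.congr_fun (congrArg Subtype.val hy) r
  letI : Algebra R.carrier B := y.1.toRingHom.toAlgebra
  haveI : IsScalarTower Λ R.carrier B := IsScalarTower.of_algebraMap_eq fun r => (y.1.commutes r).symm
  haveI := isAdicComplete_art B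
  haveI := isAdicComplete_art A
  have hxS : ∀ i, e.symm (MvPowerSeries.X i) ∈ maximalIdeal S.carrier := by
    intro i
    rw [mem_maximalIdeal, mem_nonunits_iff]
    intro hu
    have h1 := hu.map e
    rw [e.apply_symm_apply, MvPowerSeries.isUnit_iff_constantCoeff, MvPowerSeries.constantCoeff_X] at h1
    exact not_isUnit_zero h1
  have hxA : ∀ i, φ.1 (e.symm (MvPowerSeries.X i)) ∈ maximalIdeal A := by
    intro i
    rw [mem_maximalIdeal_iff]
    exact (DFunLike.congr_fun φ.2 _).trans ((CRing.mem_maximalIdeal_iff S _).1 (hxS i))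
  choose b hb using fun i => hμ (φ.1 (e.symm (MvPowerSeries.X i)))
  have hbm : ∀ i, b i ∈ maximalIdeal B := by
    intro i
    rw [mem_maximalIdeal_iff, ← res_app μ, hb, ← mem_maximalIdeal_iff]
    exact hxA i
  let ev : MvPowerSeries (Fin n) R.carrier →ₐ[R.carrier] B := PowEval.powEval (maximalIdeal B) b hbm
  let ψ : S.carrier →ₐ[Λ] B := (ev.comp e.toAlgHom).restrictScalars Λ
  have hC : ∀ r : R.carrier, e.symm (MvPowerSeries.C r) = algebraMap R.carrier S.carrier r := fun r =>
    e.symm.commutes r
  have h1 : (μ.toAlgHom : B →+* A).comp (ev : MvPowerSeries (Fin n) R.carrier →+* B) =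
      (φ.1 : S.carrier →+* A).comp (e.symm : MvPowerSeries (Fin n) R.carrier →+* S.carrier) := by
    refine PowSerMap.ringHom_ext (maximalIdeal A) _ _ ?_ ?_ ?_
    · intro i
      change μ (ev (MvPowerSeries.X i)) ∈ _
      rw [PowEval.powEval_X, hb]
      exact hxA i
    · intro i
      change μ (ev (MvPowerSeries.X i)) = φ.1 (e.symm (MvPowerSeries.X i))
      rw [PowEval.powEval_X, hb]
    · intro r
      change μ (ev (MvPowerSeries.C r)) = φ.1 (e.symm (MvPowerSeries.C r))
      rw [PowEval.powEval_C, hC]
      exact hy' r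
  have h2 : μ.toAlgHom.comp ψ = φ.1 := by
    apply AlgHom.ext
    intro s
    have := DFunLike.congr_fun h1 (e s)
    change μ (ev (e s)) = φ.1 (e.symm (e s)) at this
    rw [e.symm_apply_apply] at this
    exact this
  refine ⟨⟨ψ, ?_⟩, Subtype.ext h2, Subtype.ext (AlgHom.ext fun r => ?_)⟩
  · rw [← μ.res_comp, AlgHom.comp_assoc, h2]
    exact φ.2
  · change ev (e (algebraMap R.carrier S.carrier r)) = y.1 r
    rw [AlgEquiv.commutes, AlgHom.commutes]
    rfl

end K724.PowerSeries
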