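import Groth.Agent.ArtFun.K724.Basic
import Groth.Prelude.Def_ArtFun2

/-!
Smoothness and versality of functors of Artin rings (helper724): reduction to small extensions, surjectivity,
condition (S1).
-/

set_option autoImplicit false
universe u v
open CategoryTheory
open ArtFun ArtFun.Art

namespace K724.Smooth

open K724.Basic

variable {Λ : Type u} {k : Type u} [CommRing Λ] [Field k] [Algebra Λ k]

theorem map_bijective_of_isIso (F : Art Λ k ⥤ Type v) {A B : Art Λ k} (f : A ⟶ B) [IsIso f] :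
    Function.Bijective (F.map f) := by
  refine ⟨fun x y h => ?_, fun y => ⟨F.map (inv f) y, ?_⟩⟩
  · have h1 := congrArg (F.map (inv f)) h
    rw [map_comp_apply, map_comp_apply, IsIso.hom_inv_id, map_id_apply, map_id_apply] at h1
    exact h1
  · rw [map_comp_apply, IsIso.inv_hom_id, map_id_apply]

theorem relCmp_surjective_iff {F G : Art Λ k ⥤ Type v} (η : F ⟶ G) {B A : Art Λ k} (μ : B ⟶ A) :
    Function.Surjective (relCmp η μ) ↔ ∀ (x : F.obj A) (y : G.obj B), η.app A x = G.map μ y →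
      ∃ z : F.obj B, F.map μ z = x ∧ η.app B z = y := by
  constructor
  · intro h x y e
    obtain ⟨z, hz⟩ := h ⟨(x, y), e⟩
    exact ⟨z, congrArg (fun t => t.1.1) hz, congrArg (fun t => t.1.2) hz⟩
  · intro h w
    obtain ⟨z, h1, h2⟩ := h w.1.1 w.1.2 w.2
    exact ⟨z, Subtype.ext (Prod.ext h1 h2)⟩

theorem isSmooth_of_smallExt {F G : Art Λ k ⥤ Type v} (η : F ⟶ G)
    (h : ∀ ⦃B A : Art Λ k⦄ (μ : B ⟶ A), IsSmallExt μ → Function.Surjective (relCmp η μ)) : IsSmooth η := by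
  intro B A μ hμ
  refine surjective_induction (fun A B μ => Function.Surjective (relCmp η μ)) ?_ ?_ μ hμ
  · intro A B e he
    rw [relCmp_surjective_iff]
    intro x y exy
    obtain ⟨z, hz⟩ := (map_bijective_of_isIso F e).2 x
    refine ⟨z, hz, (map_bijective_of_isIso G e).1 ?_⟩
    rw [← NatTrans.naturality_apply, hz, exy]
  · intro A B C p q hp _ ih
    rw [relCmp_surjective_iff] at ih ⊢
    intro x y exy
    rw [← map_comp_apply G p q] at exy
    obtain ⟨z, h1, h2⟩ := ih x (G.map p y) exy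
    obtain ⟨w, h3, h4⟩ := (relCmp_surjective_iff η p).1 (h p hp) z y h2
    exact ⟨w, by rw [← map_comp_apply, h3, h1], h4⟩

/-- Versality can be checked on small extensions. -/
theorem isVersal_of_smallExt {R : Type u} [CommRing R] [Algebra Λ R] {resR : R →ₐ[Λ] k} {F : Art Λ k ⥤ Type v}
    (ξ : Family R resR F)
    (h : ∀ ⦃B A : Art Λ k⦄ (μ : B ⟶ A), IsSmallExt μ →
      ∀ (φ : HomSet R resR A) (y : F.obj B), F.map μ y = ξ.app A φ →
      ∃ ψ : HomSet R resR B, HomSet.map μ ψ = φ ∧ ξ.app B ψ = y) : IsVersal ξ := by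
  intro B A μ hμ
  refine surjective_induction (fun A B μ => ∀ (φ : HomSet R resR A) (y : F.obj B), F.map μ y = ξ.app A φ →
      ∃ ψ : HomSet R resR B, HomSet.map μ ψ = φ ∧ ξ.app B ψ = y) ?_ ?_ μ hμ
  · intro A B e he φ y hy
    refine ⟨HomSet.map (inv e) φ, ?_, ?_⟩
    · exact Subtype.ext (AlgHom.ext fun r => DFunLike.congr_fun (congrArg Hom.toAlgHom (IsIso.inv_hom_id e)) (φ.1 r))
    · rw [ξ.natural, ← hy, map_comp_apply, IsIso.hom_inv_id, map_id_apply]
  · intro A B C p q hp _ ih φ y hy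
    rw [← map_comp_apply F p q] at hy
    obtain ⟨ψ, h1, h2⟩ := ih φ (F.map p y) hy
    obtain ⟨χ, h3, h4⟩ := h p hp ψ y h2.symm
    refine ⟨χ, ?_, h4⟩
    rw [← h1, ← h3]
    rfl

/-- The map of a family into `F(k)`-point functor is hit. -/
theorem surjective_app_of_isVersal {R : Type u} [CommRing R] [Algebra Λ R] {resR : R →ₐ[Λ] k}
    {F : Art Λ k ⥤ Type v} (h0 : H0 F) (ξ : Family R resR F) (hξ : IsVersal ξ) (A : Art Λ k) :
    Function.Surjective (ξ.app A) := by
  intro y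
  let φ : HomSet R resR (base Λ k) := ⟨resR, AlgHom.id_comp _⟩
  haveI := h0.2
  obtain ⟨ψ, -, h2⟩ := hξ (toBase A) A.res_surjective φ y (Subsingleton.elim _ _)
  exact ⟨ψ, h2⟩

theorem surjective_app_of_isSmooth {F G : Art Λ k ⥤ Type v} (η : F ⟶ G) (hη : IsSmooth η)
    (h0 : Function.Surjective (η.app (base Λ k))) (A : Art Λ k) :
    Function.Surjective (η.app A) := by
  intro y
  obtain ⟨x, hx⟩ := h0 (G.map (toBase A) y)
  obtain ⟨z, -, hz⟩ := (relCmp_surjective_iff η (toBase A)).1 (hη (toBase A) A.res_surjective) x y hx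
  exact ⟨z, hz⟩

/-- Surjectivity of the comparison map, elementwise. -/
theorem cmp_surjective_iff (F : Art Λ k ⥤ Type v) {B A A' A'' : Art Λ k} {p' : B ⟶ A'} {p'' : B ⟶ A''} {f' : A' ⟶ A}
    {f'' : A'' ⟶ A} (h : IsFibreProd p' p'' f' f'') :
    Function.Surjective (cmp F h) ↔ ∀ (x : F.obj A') (y : F.obj A''), F.map f' x = F.map f'' y →
      ∃ z : F.obj B, F.map p' z = x ∧ F.map p'' z = y := by
  constructor
  · intro hs x y e
    obtain ⟨z, hz⟩ := hs ⟨(x, y), e⟩
    exact ⟨z, congrArg (fun t => t.1.1) hz, congrArg (fun t => t.1.2) hz⟩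
  · intro hs w
    obtain ⟨z, h1, h2⟩ := hs w.1.1 w.1.2 w.2
    exact ⟨z, Subtype.ext (Prod.ext h1 h2)⟩

/-- Injectivity of the comparison map, elementwise. -/
theorem cmp_injective_iff (F : Art Λ k ⥤ Type v) {B A A' A'' : Art Λ k} {p' : B ⟶ A'} {p'' : B ⟶ A''} {f' : A' ⟶ A}
    {f'' : A'' ⟶ A} (h : IsFibreProd p' p'' f' f'') :
    Function.Injective (cmp F h) ↔ ∀ (z w : F.obj B), F.map p' z = F.map p' w → F.map p'' z = F.map p'' w → z = w := by
  constructor
  · intro hs z w e1 e2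
    exact hs (Subtype.ext (Prod.ext e1 e2))
  · intro hs z w e
    exact hs z w (congrArg (fun t => t.1.1) e) (congrArg (fun t => t.1.2) e)

theorem s1_iff_hbar [IsNoetherianRing Λ] [Module.Finite Λ k] (F : Art Λ k ⥤ Type v) : S1 F ↔ Hbar F := by
  constructor
  · intro h B A A' A'' p' p'' f' f'' hB hf
    exact h p' p'' f' f'' hB hf.1
  · intro h B A A' A'' p' p'' f' f'' hB hf
    refine surjective_induction (fun A A'' f'' => Function.Surjective f'' ∧
      ∀ ⦃A' B : Art Λ k⦄ (p' : B ⟶ A') (p'' : B ⟶ A'') (f' : A' ⟶ A) (h : IsFibreProd p' p'' f' f''),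
        Function.Surjective (cmp F h)) ?_ ?_ f'' hf |>.2 p' p'' f' hB
    · intro A A'' e he
      refine ⟨(bijective_of_isIso e).2, fun A' B p' p'' f' hB => ?_⟩
      rw [cmp_surjective_iff]
      intro x y exy
      have hp' : Function.Bijective p' := by
        refine ⟨fun b₁ b₂ h₁ => hB.inj b₁ b₂ h₁ ?_, IsFibreProd.surjective_fst hB (bijective_of_isIso e).2⟩
        apply (bijective_of_isIso e).1
        rw [← hB.w_apply, ← hB.w_apply, h₁]
      haveI := isIso_of_bijective p' hp'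
      obtain ⟨z, hz⟩ := (map_bijective_of_isIso F p').2 x
      refine ⟨z, hz, (map_bijective_of_isIso F e).1 ?_⟩
      rw [map_comp_apply, ← hB.w, ← map_comp_apply, hz, exy]
    · intro A A₂ A₃ p q hp hq ih
      refine ⟨hq.comp hp.1, fun A' B p' p'' f' hB => ?_⟩
      rw [cmp_surjective_iff]
      intro x y exy
      obtain ⟨D, d₁, d₂, hD⟩ := exists_isFibreProd f' q hq
      -- B is the fibre product of D and A₃ over A₂
      obtain ⟨g, hg₁, hg₂⟩ := IsFibreProd.exists_lift hD p' (p'' ≫ p) (by rw [hB.w, Category.assoc])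
      have hBD : IsFibreProd g p'' d₂ p := by
        refine ⟨hg₂, fun b₁ b₂ h₁ h₂ => hB.inj b₁ b₂ ?_ h₂, fun d c e => ?_⟩
        · have h3 := congrArg d₁ h₁
          change (g ≫ d₁) b₁ = (g ≫ d₁) b₂ at h3
          rwa [hg₁] at h3
        · obtain ⟨b, hb₁, hb₂⟩ := hB.surj (d₁ d) c (by rw [hD.w_apply, e]; rfl)
          refine ⟨b, hD.inj _ _ ?_ ?_, hb₂⟩
          · change (g ≫ d₁) b = d₁ d
            rw [hg₁, hb₁]
          · change (g ≫ d₂) b = d₂ d
            rw [hg₂, e, ← hb₂]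
            rfl
      rw [← map_comp_apply] at exy
      obtain ⟨w, hw₁, hw₂⟩ := (cmp_surjective_iff F hD).1 (ih.2 _ _ _ hD) x (F.map p y) exy
      obtain ⟨z, hz₁, hz₂⟩ := (cmp_surjective_iff F hBD).1 (h _ _ _ _ hBD hp) w y hw₂
      refine ⟨z, ?_, hz₂⟩
      rw [← hg₁, ← map_comp_apply, hz₁, hw₁]

theorem s1_of_isVersal {R : Type u} [CommRing R] [Algebra Λ R] {resR : R →ₐ[Λ] k}
    {F : Art Λ k ⥤ Type v} (h0 : H0 F) (ξ : Family R resR F) (hξ : IsVersal ξ) : S1 F := by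
  intro B A A' A'' p' p'' f' f'' hB hf
  rw [cmp_surjective_iff]
  intro x y exy
  obtain ⟨φ, hφ⟩ := surjective_app_of_isVersal h0 ξ hξ A' x
  have h1 : F.map f'' y = ξ.app A (HomSet.map f' φ) := by rw [ξ.natural, hφ, exy]
  obtain ⟨ψ, h2, h3⟩ := hξ f'' hf (HomSet.map f' φ) y h1
  refine ⟨ξ.app B (IsFibreProd.lift hB φ ψ h2.symm), ?_, ?_⟩
  · rw [← ξ.natural, IsFibreProd.lift_fst, hφ]
  · rw [← ξ.natural, IsFibreProd.lift_snd, h3]

end K724.Smooth
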