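import Groth.Agent.ArtFun.K724.Dual

/-!
Products with square-zero objects under the condition (S2) (helper724).
-/

set_option autoImplicit false
universe u v
open CategoryTheory
open ArtFun ArtFun.Art

namespace K724.SqZero

open K724.Basic K724.Smooth K724.Dual IsLocalRing

variable {Λ : Type u} {k : Type u} [CommRing Λ] [Field k] [Algebra Λ k]

/-- `E` has good products: the comparison map of every `B = A ×_k E` is bijective. -/
def Good (F : Art Λ k ⥤ Type v) (E : Art Λ k) : Prop :=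
  ∀ ⦃B A : Art Λ k⦄ (p' : B ⟶ A) (p'' : B ⟶ E) (h : IsFibreProd p' p'' (toBase A) (toBase E)),
    Function.Bijective (cmp F h)

theorem good_of_bijective_toBase (F : Art Λ k ⥤ Type v) {E : Art Λ k} (hE : Function.Bijective (toBase E)) :
    Good F E := by
  intro B A p' p'' h
  haveI := isIso_of_bijective _ hE
  have hp' : Function.Bijective p' := by
    refine ⟨fun b₁ b₂ h₁ => h.inj b₁ b₂ h₁ ?_, IsFibreProd.surjective_fst h hE.2⟩
    apply hE.1
    rw [← h.w_apply, ← h.w_apply, h₁]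
  haveI := isIso_of_bijective p' hp'
  constructor
  · rw [cmp_injective_iff]
    intro z w e _
    exact (map_bijective_of_isIso F p').1 e
  · rw [cmp_surjective_iff]
    intro x y exy
    obtain ⟨z, hz⟩ := (map_bijective_of_isIso F p').2 x
    refine ⟨z, hz, (map_bijective_of_isIso F (toBase E)).1 ?_⟩
    rw [map_comp_apply, ← h.w, ← map_comp_apply, hz, exy]

/-- A product of good objects is good. -/
theorem good_prod [IsNoetherianRing Λ] [Module.Finite Λ k] (F : Art Λ k ⥤ Type v) {E E₁ E₂ : Art Λ k}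
    {r₁ : E ⟶ E₁} {r₂ : E ⟶ E₂} (hE : IsFibreProd r₁ r₂ (toBase E₁) (toBase E₂)) (h₁ : Good F E₁) (h₂ : Good F E₂) :
    Good F E := by
  intro B A p' p'' h
  -- C = A ×_k E₁
  obtain ⟨C, c₁, c₂, hC⟩ := exists_isFibreProd (toBase A) (toBase E₁) E₁.res_surjective
  obtain ⟨g, hg₁, hg₂⟩ := IsFibreProd.exists_lift hC p' (p'' ≫ r₁) (by
    rw [eq_toBase (p' ≫ toBase A), eq_toBase ((p'' ≫ r₁) ≫ toBase E₁)])
  have hB : IsFibreProd g (p'' ≫ r₂) (toBase C) (toBase E₂) := by
    refine ⟨by rw [eq_toBase (g ≫ toBase C), eq_toBase ((p'' ≫ r₂) ≫ toBase E₂)], ?_, ?_⟩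
    · intro b₁ b₂ e₁ e₂
      apply h.inj
      · rw [← hg₁]; exact congrArg c₁ e₁
      · apply hE.inj
        · have := congrArg c₂ e₁
          change (g ≫ c₂) b₁ = (g ≫ c₂) b₂ at this
          rwa [hg₂] at this
        · exact e₂
    · intro c e₂ he
      have he' : C.res c = E₂.res e₂ := he
      obtain ⟨e, hee₁, hee₂⟩ := hE.surj (c₂ c) e₂ (by
        change E₁.res (c₂ c) = E₂.res e₂
        rw [res_app, he'])
      obtain ⟨b, hb₁, hb₂⟩ := h.surj (c₁ c) e (by
        change A.res (c₁ c) = E.res e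
        rw [res_app, he', ← hee₂, res_app])
      refine ⟨b, ?_, ?_⟩
      · apply hC.inj
        · change (g ≫ c₁) b = _
          rw [hg₁, hb₁]
        · change (g ≫ c₂) b = _
          rw [hg₂, ← hee₁, ← hb₂]
          rfl
      · rw [← hee₂, ← hb₂]
        rfl
  have gC := h₁ c₁ c₂ hC
  have gB := h₂ g (p'' ≫ r₂) hB
  have gE := h₂ r₁ r₂ hE
  constructor
  · rw [cmp_injective_iff]
    intro z w e₁ e₂
    apply (cmp_injective_iff F hB).1 gB.1
    · apply (cmp_injective_iff F hC).1 gC.1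
      · rw [map_comp_apply, map_comp_apply, hg₁, e₁]
      · rw [map_comp_apply, map_comp_apply, hg₂, ← map_comp_apply, ← map_comp_apply, e₂]
    · rw [← map_comp_apply, ← map_comp_apply, e₂]
  · rw [cmp_surjective_iff]
    intro x y exy
    obtain ⟨c, hc₁, hc₂⟩ := (cmp_surjective_iff F hC).1 gC.2 x (F.map r₁ y) (by
      rw [exy, map_comp_apply, eq_toBase (r₁ ≫ toBase E₁)])
    obtain ⟨z, hz₁, hz₂⟩ := (cmp_surjective_iff F hB).1 gB.2 c (F.map r₂ y) (by
      have e1 : F.map (toBase C) c = F.map (toBase A) (F.map c₁ c) := by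
        rw [map_comp_apply]; rw [eq_toBase (c₁ ≫ toBase A)]
      have e2 : F.map (toBase E₂) (F.map r₂ y) = F.map (toBase E) y := by
        rw [map_comp_apply]; rw [eq_toBase (r₂ ≫ toBase E₂)]
      rw [e1, hc₁, e2, exy])
    refine ⟨z, ?_, ?_⟩
    · rw [← hg₁, ← map_comp_apply, hz₁, hc₁]
    · apply (cmp_injective_iff F hE).1 gE.1
      · rw [map_comp_apply, ← hg₂, ← map_comp_apply, hz₁, hc₂]
      · rw [map_comp_apply, hz₂]

/-- Square-zero objects with a section are good. -/
theorem good_of_sq_zero [IsNoetherianRing Λ] [Module.Finite Λ k] {F : Art Λ k ⥤ Type v} (hF : Heps F)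
    {E : Art Λ k} (hσ : Nonempty (base Λ k ⟶ E)) (hE : maximalIdeal E ^ 2 = ⊥) : Good F E := by
  refine surjective_induction (fun C E _ => Function.Bijective (toBase C) → Nonempty (base Λ k ⟶ E) →
    maximalIdeal E ^ 2 = ⊥ → Good F E) ?_ ?_ (toBase E) E.res_surjective ?_ hσ hE
  · intro C E e he hC _ _
    apply good_of_bijective_toBase
    have : toBase E = e ≫ toBase C := (eq_toBase _).symm
    rw [this]
    exact hC.comp (bijective_of_isIso e)
  · rintro C E' E p q hp hq ih hC ⟨σ⟩ hE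
    have hE' : maximalIdeal E' ^ 2 = ⊥ := by
      have h1 : maximalIdeal E' ≤ (maximalIdeal E).map p.toAlgHom := by
        intro x hx
        obtain ⟨y, rfl⟩ := hp.1 x
        apply Ideal.mem_map_of_mem
        rw [mem_maximalIdeal_iff, ← res_app p]
        exact (mem_maximalIdeal_iff _ _).1 hx
      rw [eq_bot_iff]
      calc maximalIdeal E' ^ 2 ≤ ((maximalIdeal E).map p.toAlgHom) ^ 2 := Ideal.pow_right_mono h1 2
        _ = (maximalIdeal E ^ 2).map p.toAlgHom := (Ideal.map_pow _ _ _).symm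
        _ = ⊥ := by rw [hE, Ideal.map_bot]
        _ ≤ ⊥ := le_rfl
    have gE' := ih hC ⟨σ ≫ p⟩ hE'
    obtain ⟨r, hr⟩ := exists_isFibreProd_dual_of_sq_zero p hp σ hE
    exact good_prod F hr gE' (fun B A p' p'' h => hF p' p'' h)
  · rw [eq_toBase (𝟙 (base Λ k)) |>.symm]
    exact Function.bijective_id

end K724.SqZero
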